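import Cfsg.Agent.Lib.Spor.M24Closed.Model
import Cfsg.Agent.Lib.Grp.CoprimeAbelian

/-!
# Automorphisms of `A` of odd order and the image of `S` (for S3169)

An automorphism of odd order commuting with the image of `S` is trivial; so is every subgroup of odd order
normalised by it, since the two four-groups act trivially on the fixed points of each of their involutions.
-/

set_option autoImplicit false
set_option linter.unusedSectionVars false
set_option linter.style.haveILetI false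

namespace Cfsg.Agent.Spor.M24Closed

open Subgroup Cfsg.Agent.Spor.M24Quot

universe u

variable {G : Type u} [Group G] [Finite G] (m : Shape G)

namespace Shape

/-- The automorphism of `A` induced by an element of `S`. -/
noncomputable def th (x : G) (hx : x ∈ (m.S : Subgroup G)) : MulAut ↥m.A :=
  m.A.normalizerMonoidHom ⟨x, m.sylow_le_normalizer hx⟩

theorem vec_th {x : G} (hx : x ∈ (m.S : Subgroup G)) (a : ↥m.A) :
    m.vec ((m.th x hx a : ↥m.A) : G) = act (m.mid x) (m.vec a) := m.vec_conj hx a.2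

theorem th_mul {x y : G} (hx : x ∈ (m.S : Subgroup G)) (hy : y ∈ (m.S : Subgroup G)) :
    m.th (x * y) (mul_mem hx hy) = m.th x hx * m.th y hy := by
  rw [th, th, th, ← map_mul]
  rfl

/-- The commutator with `a`. -/
theorem vec_th_mul {x : G} (hx : x ∈ (m.S : Subgroup G)) (a : ↥m.A) :
    m.vec ((m.th x hx a * a : ↥m.A) : G) = dd (m.mid x) (m.vec a) := by
  rw [Subgroup.coe_mul, m.vec_mul (m.th x hx a).2 a.2, m.vec_th, vadd_act]

theorem sqA (a : ↥m.A) : a * a = 1 := Subtype.ext (m.sq a.2)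

theorem invA (a : ↥m.A) : a⁻¹ = a := inv_eq_of_mul_eq_one_right (m.sqA a)

theorem commA (a b : ↥m.A) : a * b = b * a := Subtype.ext (m.comm a.2 b.2)

theorem th_apply_eq_self {x : G} (hx : x ∈ (m.S : Subgroup G)) (a : ↥m.A) :
    m.th x hx a = a ↔ dd (m.mid x) (m.vec a) = v0 := by
  rw [← m.vec_th_mul hx a, m.vec_eq_v0 (m.th x hx a * a : ↥m.A).2]
  exact ⟨fun h => by rw [h, m.sqA]; rfl, fun h => by
    rw [eq_inv_of_mul_eq_one_left (show m.th x hx a * a = 1 from Subtype.ext h), m.invA]⟩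

theorem th_eq_one_iff {x : G} (hx : x ∈ (m.S : Subgroup G)) : m.th x hx = 1 ↔ m.mid x = u0 := by
  have hdd0 : ∀ v : Outer, dd u0 v = v0 := by decide +kernel
  have hfaith : ∀ f : Mid, (∀ v : Outer, dd f v = v0) → f = u0 := by decide +kernel
  refine ⟨fun h => hfaith _ fun v => ?_, fun h => MulEquiv.ext fun a => (m.th_apply_eq_self hx a).2 (by rw [h, hdd0])⟩
  obtain ⟨a, ha, rfl⟩ := m.vec_surj v
  exact (m.th_apply_eq_self hx ⟨a, ha⟩).1 (by rw [h]; rfl)

/-- A twist fixed by an automorphism of odd order is trivial. -/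
theorem eq_one_of_twist {v : MulAut ↥m.A} (hv : Odd (orderOf v)) {a w : ↥m.A} (h : v a = a * w) (hw : v w = w) :
    w = 1 := by
  have hpow : ∀ n : ℕ, (v ^ n) a = a * w ^ n := by
    intro n
    induction n with
    | zero => simp
    | succ n ih => rw [pow_succ', MulAut.mul_apply, ih, map_mul, map_pow, hw, h, pow_succ', mul_assoc]
  obtain ⟨k, hk⟩ := hv
  have h1 := hpow (orderOf v)
  rw [pow_orderOf_eq_one, MulAut.one_apply, left_eq_mul, hk, pow_succ, pow_mul, pow_two, m.sqA, one_pow,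
    one_mul] at h1
  exact h1

/-- An odd automorphism commuting with the image of `S` is trivial. -/
theorem eq_one_of_commute {v : MulAut ↥m.A} (hv : Odd (orderOf v))
    (hc : ∀ x (hx : x ∈ (m.S : Subgroup G)), Commute v (m.th x hx)) : v = 1 := by
  obtain ⟨X, hX, hXm⟩ := m.mid_surj xx
  obtain ⟨Y, hY, hYm⟩ := m.mid_surj yy
  obtain ⟨Z, hZ, hZm⟩ := m.mid_surj zz
  have hcA : ∀ {x : G} (hx : x ∈ (m.S : Subgroup G)) (a : ↥m.A), m.th x hx (v a) = v (m.th x hx a) :=
    fun hx a => (DFunLike.congr_fun (hc _ hx).eq a).symm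
  -- the commutators of an image
  have hdd : ∀ {x : G} (hx : x ∈ (m.S : Subgroup G)) (a : ↥m.A),
      dd (m.mid x) (m.vec (v a : ↥m.A)) = m.vec (v (m.th x hx a * a) : ↥m.A) := fun hx a => by
    rw [← m.vec_th_mul hx (v a), hcA, map_mul]
  have hddv : ∀ {x : G} (hx : x ∈ (m.S : Subgroup G)) (a : ↥m.A), dd (m.mid x) (m.vec a) = v0 →
      dd (m.mid x) (m.vec (v a : ↥m.A)) = v0 := fun hx a h => by
    rw [← m.th_apply_eq_self hx (v a), hcA, (m.th_apply_eq_self hx a).2 h]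
  -- `v` fixes a point in the centre
  have hpt : ∀ {P Q R : G} (hP : P ∈ (m.S : Subgroup G)) (hQ : Q ∈ (m.S : Subgroup G)) (hR : R ∈ (m.S : Subgroup G))
      {e : Outer}, (∀ a ∈ fix2 (m.mid P) (m.mid Q), dd (m.mid R) a = v0 ∨ dd (m.mid R) a = e) →
      (∃ a ∈ fix2 (m.mid P) (m.mid Q), dd (m.mid R) a = e) → e ≠ v0 → ∀ c : ↥m.A, m.vec c = e → v c = c := by
    intro P Q R hP hQ hR e hall hex he c hce
    obtain ⟨_, hfix, hRe⟩ := hex
    obtain ⟨a, ha, rfl⟩ := m.vec_surj ‹Outer›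
    obtain ⟨h1, h2⟩ := Finset.mem_filter.1 hfix
    have h1' := (Finset.mem_filter.1 h1).2
    have hca : m.th R hR ⟨a, ha⟩ * ⟨a, ha⟩ = c :=
      Subtype.ext (m.vec_inj (SetLike.coe_mem _) c.2 (by rw [m.vec_th_mul, hce, hRe]))
    have h3 : m.vec (v c : ↥m.A) = dd (m.mid R) (m.vec (v ⟨a, ha⟩ : ↥m.A)) := by rw [hdd hR, hca]
    rcases hall (m.vec (v ⟨a, ha⟩ : ↥m.A)) (Finset.mem_filter.2 ⟨Finset.mem_filter.2 ⟨Finset.mem_univ _,
      hddv hP ⟨a, ha⟩ h1'⟩, hddv hQ ⟨a, ha⟩ h2⟩) with h | h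
    · rw [h, m.vec_eq_v0 (v c).2] at h3
      have hc1 : c = 1 := (map_eq_one_iff v v.injective).1 (Subtype.ext h3)
      exact absurd (by rw [← hce, hc1]; exact m.vec_one) he
    · exact Subtype.ext (m.vec_inj (v c).2 c.2 (by rw [h3, h, hce]))
  obtain ⟨h14, h14', h25, h25'⟩ := soc_gen
  have hsoc : ∀ a : ↥m.A, m.vec a ∈ soc → v a = a := by
    have hc14 : ∀ c : ↥m.A, m.vec c = ee14 → v c = c :=
      hpt hX hY hZ (by rw [hXm, hYm, hZm]; exact h14) (by rw [hXm, hYm, hZm]; exact h14') (by decide)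
    have hc25 : ∀ c : ↥m.A, m.vec c = ee25 → v c = c :=
      hpt hZ hY hX (by rw [hXm, hYm, hZm]; exact h25) (by rw [hXm, hYm, hZm]; exact h25') (by decide)
    intro a ha
    simp only [soc, Finset.mem_insert, Finset.mem_singleton] at ha
    rcases ha with h | h | h | h
    · rw [show a = 1 from Subtype.ext ((m.vec_eq_v0 a.2).1 h), map_one]
    · exact hc14 a h
    · exact hc25 a h
    · obtain ⟨b, hb, hbe⟩ := m.vec_surj ee14
      have h1 : m.vec ((a * ⟨b, hb⟩ : ↥m.A) : G) = ee25 := by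
        rw [Subgroup.coe_mul, m.vec_mul a.2 hb, h, hbe]
        decide
      rw [show a = a * ⟨b, hb⟩ * ⟨b, hb⟩ by rw [mul_assoc, m.sqA, mul_one], map_mul, hc25 _ h1,
        hc14 ⟨b, hb⟩ hbe]
  -- climbing the socle series
  have climb : ∀ L : Finset Outer, (∀ a : ↥m.A, m.vec a ∈ L → v a = a) → ∀ a : ↥m.A,
      dd xx (m.vec a) ∈ L → dd yy (m.vec a) ∈ L → dd zz (m.vec a) ∈ L → v a = a := by
    intro L hL a h1 h2 h3
    have key : ∀ {x : G} (hx : x ∈ (m.S : Subgroup G)), dd (m.mid x) (m.vec a) ∈ L →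
        dd (m.mid x) (m.vec ((a * v a : ↥m.A) : G)) = v0 := fun {x} hx h => by
      rw [← m.th_apply_eq_self hx, map_mul, hcA]
      have e : v (m.th x hx a * a) = m.th x hx a * a := hL _ (by rwa [m.vec_th_mul])
      rw [map_mul] at e
      calc m.th x hx a * v (m.th x hx a) = m.th x hx a * (v (m.th x hx a) * v a * v a) := by
            rw [mul_assoc (v (m.th x hx a)), m.sqA, mul_one]
        _ = m.th x hx a * (m.th x hx a * a * v a) := by rw [e]
        _ = _ := by rw [← mul_assoc, ← mul_assoc, m.sqA, one_mul]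
    have hw : v (a * v a) = a * v a := hsoc _ ((soc_iff _).1
      ⟨hXm ▸ key hX (hXm.symm ▸ h1), hYm ▸ key hY (hYm.symm ▸ h2), hZm ▸ key hZ (hZm.symm ▸ h3)⟩)
    have hw1 := m.eq_one_of_twist hv (a := a) (w := a * v a) (by rw [← mul_assoc, m.sqA, one_mul]) hw
    exact (eq_inv_of_mul_eq_one_right hw1).trans (m.invA a)
  have hsoc2 : ∀ a : ↥m.A, m.vec a ∈ soc2 → v a = a := fun a ha => by
    obtain ⟨-, h1, h2, h3⟩ := Finset.mem_filter.1 ha
    exact climb soc hsoc a h1 h2 h3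
  exact MulEquiv.ext fun a =>
    climb soc2 hsoc2 a (soc2_spec _).1 (soc2_spec _).2.1 (soc2_spec _).2.2

/-- The fixed points of one involution of a four-group are fixed by the others. -/
theorem commute_of_pair {Y : Subgroup (MulAut ↥m.A)} (hY : Odd (Nat.card ↥Y)) {f g : G}
    (hf : f ∈ (m.S : Subgroup G)) (hg : g ∈ (m.S : Subgroup G)) (hp : isPair (m.mid f) (m.mid g) = true)
    (hn : ∀ v ∈ Y, m.th g hg * v * (m.th g hg)⁻¹ ∈ Y) {v : MulAut ↥m.A} (hv : v ∈ Y)
    (hvf : Commute v (m.th f hf)) : Commute v (m.th g hg) := by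
  set φ := m.th g hg
  have hφ2 : φ * φ = 1 := by
    rw [← m.th_mul hg hg, m.th_eq_one_iff, m.mid_mul hg hg]
    simp [isPair, isInv] at hp
    exact hp.1.1.2.1
  have hφi : φ⁻¹ = φ := inv_eq_of_mul_eq_one_right hφ2
  set w := φ * v * φ⁻¹ * v⁻¹
  have hwY : w ∈ Y := mul_mem (hn v hv) (inv_mem hv)
  have hwo : Odd (orderOf w) := hY.of_dvd_nat (by
    rw [← orderOf_mk w hwY]; exact orderOf_dvd_natCard _)
  have hvinv : Commute v⁻¹ (m.th f hf) := hvf.inv_left
  -- `v` keeps the fixed space and the commutators of `f`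
  have hfix : ∀ {z : MulAut ↥m.A}, Commute z (m.th f hf) → ∀ a : ↥m.A, m.vec a ∈ fix1 (m.mid f) →
      m.vec (z a : ↥m.A) ∈ fix1 (m.mid f) := fun {z} hz a ha => Finset.mem_filter.2 ⟨Finset.mem_univ _, by
    rw [← m.th_apply_eq_self hf, ← MulAut.mul_apply, ← hz.eq, MulAut.mul_apply,
      (m.th_apply_eq_self hf a).2 (Finset.mem_filter.1 ha).2]⟩
  have him : ∀ {z : MulAut ↥m.A}, Commute z (m.th f hf) → ∀ a : ↥m.A, m.vec a ∈ im1 (m.mid f) →
      m.vec (z a : ↥m.A) ∈ im1 (m.mid f) := fun {z} hz a ha => by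
    obtain ⟨_, -, he⟩ := Finset.mem_image.1 ha
    obtain ⟨b, hb, rfl⟩ := m.vec_surj ‹Outer›
    have : a = m.th f hf ⟨b, hb⟩ * ⟨b, hb⟩ :=
      Subtype.ext (m.vec_inj a.2 (SetLike.coe_mem _) (by rw [m.vec_th_mul, ← he]))
    rw [this, map_mul, ← MulAut.mul_apply, hz.eq, MulAut.mul_apply, m.vec_th_mul]
    exact Finset.mem_image.2 ⟨_, Finset.mem_univ _, rfl⟩
  have hch := fun a : ↥m.A => chain _ _ hp (m.vec a)
  have hwa : ∀ a : ↥m.A, ∃ d d' : ↥m.A,
      φ (v⁻¹ a) = v⁻¹ a * d ∧ φ a = a * d' ∧ w a = a * d' * φ (v d) ∧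
      m.vec d = dd (m.mid g) (m.vec (v⁻¹ a : ↥m.A)) ∧ m.vec d' = dd (m.mid g) (m.vec a) := by
    intro a
    refine ⟨φ (v⁻¹ a) * v⁻¹ a, φ a * a, ?_, ?_, ?_, m.vec_th_mul hg _, m.vec_th_mul hg _⟩
    · rw [m.commA (φ (v⁻¹ a)), ← mul_assoc, m.sqA, one_mul]
    · rw [m.commA (φ a), ← mul_assoc, m.sqA, one_mul]
    · have h1 : φ⁻¹ (v⁻¹ a) = v⁻¹ a * (φ (v⁻¹ a) * v⁻¹ a) := by
        rw [hφi, m.commA (φ (v⁻¹ a)), ← mul_assoc, m.sqA, one_mul]
      have h2 : φ a = a * (φ a * a) := by rw [m.commA (φ a), ← mul_assoc, m.sqA, one_mul]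
      show φ (v (φ⁻¹ (v⁻¹ a))) = _
      rw [h1, map_mul v, MulAut.apply_inv_self, map_mul φ]
      conv_lhs => rw [h2]
  have hbot : ∀ a : ↥m.A, m.vec a ∈ im1 (m.mid f) → w a = a := by
    intro a ha
    obtain ⟨d, d', -, -, e, hd, hd'⟩ := hwa a
    rw [(hch (v⁻¹ a)).2.2 (him hvinv a ha), m.vec_eq_v0 d.2] at hd
    rw [(hch a).2.2 ha, m.vec_eq_v0 d'.2] at hd'
    rw [e, show d = 1 from Subtype.ext hd, show d' = 1 from Subtype.ext hd', map_one, map_one, mul_one, mul_one]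
  have hmid : ∀ a : ↥m.A, m.vec a ∈ fix1 (m.mid f) → w a = a := by
    intro a ha
    obtain ⟨d, d', -, -, e, hd, hd'⟩ := hwa a
    have h1 : m.vec d ∈ im1 (m.mid f) := hd ▸ (hch (v⁻¹ a)).2.1 (hfix hvinv a ha)
    have h2 : m.vec d' ∈ im1 (m.mid f) := hd' ▸ (hch a).2.1 ha
    have h3 : φ (v d) = v d := (m.th_apply_eq_self hg _).2 ((hch (v d)).2.2 (him hvf d h1))
    rw [h3, mul_assoc] at e
    rw [e, m.eq_one_of_twist hwo e (by rw [map_mul, hbot _ h2, hbot _ (him hvf d h1)]), mul_one]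
  have htop : ∀ a : ↥m.A, w a = a := by
    intro a
    obtain ⟨d, d', -, -, e, hd, hd'⟩ := hwa a
    have h1 : m.vec d ∈ fix1 (m.mid f) := hd ▸ (hch (v⁻¹ a)).1
    have h2 : m.vec d' ∈ fix1 (m.mid f) := hd' ▸ (hch a).1
    have h4 : φ (v d) = v d * (φ (v d) * v d) := by rw [m.commA (φ (v d)), ← mul_assoc, m.sqA, one_mul]
    have h5 : w (φ (v d) * v d) = φ (v d) * v d :=
      hbot _ (by rw [m.vec_th_mul]; exact (hch (v d)).2.1 (hfix hvf d h1))
    have h6 : w (φ (v d)) = φ (v d) := by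
      rw [h4, map_mul, hmid _ (hfix hvf d h1), h5]
    rw [mul_assoc] at e
    rw [e, m.eq_one_of_twist hwo e (by rw [map_mul, hmid _ h2, h6]), mul_one]
  have hw1 : w = 1 := MulEquiv.ext htop
  exact (mul_inv_eq_iff_eq_mul.1 (mul_inv_eq_one.1 hw1)).symm

set_option maxHeartbeats 800000 in
/-- A subgroup of odd order normalised by the image of `S` is trivial. -/
theorem eq_bot_of_normalized {Y : Subgroup (MulAut ↥m.A)} (hY : Odd (Nat.card ↥Y))
    (hn : ∀ x (hx : x ∈ (m.S : Subgroup G)), ∀ v ∈ Y, m.th x hx * v * (m.th x hx)⁻¹ ∈ Y) : Y = ⊥ := by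
  obtain ⟨hXY, hZY⟩ := pairs
  obtain ⟨X, hX, hXm⟩ := m.mid_surj xx
  obtain ⟨Y', hY', hYm⟩ := m.mid_surj yy
  obtain ⟨Z, hZ, hZm⟩ := m.mid_surj zz
  -- a four-group centralises `Y`
  have four : ∀ {f g : G} (hf : f ∈ (m.S : Subgroup G)) (hg : g ∈ (m.S : Subgroup G)),
      isPair (m.mid f) (m.mid g) = true → ∀ v ∈ Y, Commute v (m.th f hf) ∧ Commute v (m.th g hg) := by
    intro f g hf hg hp
    set a := m.th f hf
    set b := m.th g hg
    obtain ⟨p1, p2, -, p4⟩ := pair_third _ _ hp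
    have hp' := hp
    simp [isPair, isInv] at hp'
    obtain ⟨⟨⟨⟨hf2, hf0⟩, hg2, hg0⟩, hfg⟩, hcm⟩ := hp'
    have eq1 : ∀ {x y : G} (hx : x ∈ (m.S : Subgroup G)) (hy : y ∈ (m.S : Subgroup G)),
        umul (m.mid x) (m.mid y) = u0 → m.th x hx * m.th y hy = 1 := fun hx hy h => by
      rw [← m.th_mul hx hy, m.th_eq_one_iff, m.mid_mul hx hy, h]
    have haa : a * a = 1 := eq1 hf hf hf2
    have hbb : b * b = 1 := eq1 hg hg hg2
    have habb : a * b * (a * b) = 1 := by
      rw [← m.th_mul hf hg]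
      refine eq1 (mul_mem hf hg) (mul_mem hf hg) ?_
      rw [m.mid_mul hf hg]
      simp [isInv] at p4
      exact p4.1
    have hab : Commute a b := by
      calc a * b = a * (a * b * (a * b)) * b := by rw [habb, mul_one]
        _ = (a * a) * (b * a) * (b * b) := by group
        _ = b * a := by rw [haa, hbb, one_mul, mul_one]
    have r1 : a * (a * b) = b := by rw [← mul_assoc, haa, one_mul]
    have r2 : b * (a * b) = a := by rw [← mul_assoc, ← hab.eq, mul_assoc, hbb, mul_one]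
    have r3 : a * b * a = b := by rw [hab.eq, mul_assoc, haa, mul_one]
    have r4 : a * b * b = a := by rw [mul_assoc, hbb, mul_one]
    let F : Subgroup (MulAut ↥m.A) :=
      { carrier := {x | x = 1 ∨ x = a ∨ x = b ∨ x = a * b}
        one_mem' := Or.inl rfl
        mul_mem' := by
          rintro x y (rfl | rfl | rfl | rfl) (rfl | rfl | rfl | rfl) <;>
            simp only [Set.mem_setOf_eq, one_mul, mul_one, haa, hbb, habb, r1, r2, r3, r4, ← hab.eq, true_or, or_true]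
        inv_mem' := by
          rintro x (rfl | rfl | rfl | rfl)
          · simp
          · simp [inv_eq_of_mul_eq_one_right haa]
          · simp [inv_eq_of_mul_eq_one_right hbb]
          · simp [inv_eq_of_mul_eq_one_right habb] }
    have ha1 : a ≠ 1 := fun h => hf0 ((m.th_eq_one_iff hf).1 h)
    have hb1 : b ≠ 1 := fun h => hg0 ((m.th_eq_one_iff hg).1 h)
    have hab1 : a * b ≠ 1 := fun h => by
      rw [← m.th_mul hf hg, m.th_eq_one_iff, m.mid_mul hf hg] at h
      simp [isInv, h] at p4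
    have hne : a ≠ b := fun h => hab1 (by rw [h, hbb])
    have hFsq : ∀ x : ↥F, x ^ 2 = 1 := by
      rintro ⟨x, (rfl | rfl | rfl | rfl)⟩ <;> refine Subtype.ext ?_ <;> simp [pow_two, haa, hbb, habb]
    haveI : IsMulCommutative ↥F := ⟨⟨fun x y => by
      have e1 := hFsq (x * y)
      have e2 := hFsq x
      have e3 := hFsq y
      rw [pow_two] at e1 e2 e3
      calc x * y = x * (x * y * (x * y)) * y := by rw [e1, mul_one]
        _ = (x * x) * (y * x) * (y * y) := by group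
        _ = y * x := by rw [e2, e3, one_mul, mul_one]⟩⟩
    have hnc : ¬ IsCyclic ↥F := fun h => by
      obtain ⟨⟨g₀, hg₀⟩, hgen⟩ := h.exists_generator
      have h2 : Nat.card ↥F ≤ 2 := by
        rw [← orderOf_eq_card_of_forall_mem_zpowers hgen]
        exact Nat.le_of_dvd two_pos (orderOf_dvd_of_pow_eq_one (hFsq _))
      have h3 := Nat.card_le_card_of_injective
        (fun i : Fin 3 => (⟨![1, a, b] i, by fin_cases i <;> simp [F]⟩ : ↥F)) (fun i j e => by
          have e' := congrArg Subtype.val e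
          fin_cases i <;> fin_cases j <;> simp_all)
      simp at h3
      omega
    have hnF : F ≤ normalizer (Y : Set (MulAut ↥m.A)) := by
      intro x hx
      refine mem_normalizer_fintype fun v hv => ?_
      rcases hx with rfl | rfl | rfl | rfl
      · simpa using hv
      · exact hn f hf v hv
      · exact hn g hg v hv
      · rw [← m.th_mul hf hg]; exact hn _ (mul_mem hf hg) v hv
    have hcop : (Nat.card ↥F).Coprime (Nat.card ↥Y) := by
      obtain ⟨k, hk⟩ := IsPGroup.iff_card.1 (fun x : ↥F => (⟨1, by simpa using hFsq x⟩ : ∃ k, x ^ 2 ^ k = 1))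
      rw [hk]
      exact Nat.Coprime.pow_left k (Nat.coprime_two_left.2 hY)
    have hle : (⨆ x ∈ {x : MulAut ↥m.A | x ∈ F ∧ x ≠ 1}, Y ⊓ centralizer {x}) ≤ centralizer ({a, b} : Set (MulAut ↥m.A)) := by
      refine iSup₂_le fun x hx v hv => ?_
      have hvx : Commute v x := mem_centralizer_singleton_iff.1 hv.2
      suffices h : Commute v a ∧ Commute v b by
        refine mem_centralizer_iff.2 ?_
        rintro z (rfl | rfl)
        exacts [h.1.eq.symm, h.2.eq.symm]
      have hba : isPair (m.mid g) (m.mid f) = true := by simp [isPair] at hp ⊢; tauto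
      rcases hx.1 with rfl | rfl | rfl | rfl
      · exact absurd rfl hx.2
      · exact ⟨hvx, m.commute_of_pair hY hf hg hp (hn g hg) hv.1 hvx⟩
      · exact ⟨m.commute_of_pair hY hg hf hba (hn f hf) hv.1 hvx, hvx⟩
      · rw [← m.th_mul hf hg] at hvx
        refine ⟨m.commute_of_pair hY (mul_mem hf hg) hf ?_ (hn f hf) hv.1 hvx,
          m.commute_of_pair hY (mul_mem hf hg) hg ?_ (hn g hg) hv.1 hvx⟩
        · rw [m.mid_mul hf hg]; simp [isPair] at p1 ⊢; tauto
        · rw [m.mid_mul hf hg]; simp [isPair] at p2 ⊢; tauto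
    intro v hv
    have h := hle ((Grp.generated_by_centralizers F Y hnc hnF hcop).ge hv)
    exact ⟨(mem_centralizer_iff.1 h a (by simp)).symm, (mem_centralizer_iff.1 h b (by simp)).symm⟩
  refine (eq_bot_iff_forall _).2 fun v hv => m.eq_one_of_commute (hY.of_dvd_nat (by
    rw [← orderOf_mk v hv]; exact orderOf_dvd_natCard _)) fun x hx => ?_
  obtain ⟨hvX, hvY⟩ := four hX hY' (by rw [hXm, hYm]; exact hXY) v hv
  obtain ⟨hvZ, -⟩ := four hZ hY' (by rw [hZm, hYm]; exact hZY) v hv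
  have hmidgen : ∀ f : Mid, f = u0 ∨ f = xx ∨ f = yy ∨ f = zz ∨ f = umul xx yy ∨ f = umul xx zz ∨ f = umul zz xx ∨
      f = umul zz yy := by decide +kernel
  have same : ∀ {y : G} (hy : y ∈ (m.S : Subgroup G)), m.mid x = m.mid y → m.th x hx = m.th y hy := fun {y} hy h =>
    MulEquiv.ext fun a => Subtype.ext (m.vec_inj (SetLike.coe_mem _) (SetLike.coe_mem _) (by rw [m.vec_th, m.vec_th, h]))
  rcases hmidgen (m.mid x) with h | h | h | h | h | h | h | h
  · rw [(m.th_eq_one_iff hx).2 h]; exact Commute.one_right _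
  · rw [same hX (h.trans hXm.symm)]; exact hvX
  · rw [same hY' (h.trans hYm.symm)]; exact hvY
  · rw [same hZ (h.trans hZm.symm)]; exact hvZ
  · rw [same (mul_mem hX hY') (by rw [m.mid_mul hX hY', hXm, hYm]; exact h), m.th_mul hX hY']; exact hvX.mul_right hvY
  · rw [same (mul_mem hX hZ) (by rw [m.mid_mul hX hZ, hXm, hZm]; exact h), m.th_mul hX hZ]; exact hvX.mul_right hvZ
  · rw [same (mul_mem hZ hX) (by rw [m.mid_mul hZ hX, hXm, hZm]; exact h), m.th_mul hZ hX]; exact hvZ.mul_right hvX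
  · rw [same (mul_mem hZ hY') (by rw [m.mid_mul hZ hY', hZm, hYm]; exact h), m.th_mul hZ hY']; exact hvZ.mul_right hvY

end Shape

end Cfsg.Agent.Spor.M24Closed
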