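import Cfsg.Agent.Lib.Spor.M24Closed.Elem
import Cfsg.Agent.Lib.Grp.Signalizer

/-!
# The abelian subgroup of order 64 is strongly closed (for S3169)

Otherwise take a conjugate of `A` meeting `S` outside `A` in a subgroup `U` as large as possible; the part of `A`
normalising `U` normalises a conjugate through `U`, hence is no larger than `U`: against the finite facts.
-/

set_option autoImplicit false
set_option linter.unusedSectionVars false
set_option linter.style.haveILetI false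

namespace Cfsg.Agent.Spor.M24Closed

open Subgroup

universe u

variable {G : Type u} [Group G] [Finite G] (m : Shape G)

namespace Shape

/-- The conjugate `g A g⁻¹`. -/
abbrev cA (g : G) : Subgroup G := m.A.map (MulAut.conj g).toMonoidHom

theorem mem_cA {g x : G} : x ∈ m.cA g ↔ g⁻¹ * x * g ∈ m.A := by
  constructor
  · rintro ⟨a, ha, rfl⟩
    show g⁻¹ * (g * a * g⁻¹) * g ∈ m.A
    rwa [show g⁻¹ * (g * a * g⁻¹) * g = a by group]
  · intro h
    refine ⟨_, h, ?_⟩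
    show g * (g⁻¹ * x * g) * g⁻¹ = x
    group

theorem cA_elem (g : G) : Cfsg.IsElementaryAbelian 2 (m.cA g) := by
  refine ⟨⟨⟨?_⟩⟩, ?_⟩
  · rintro ⟨_, a, ha, rfl⟩ ⟨_, b, hb, rfl⟩
    refine Subtype.ext ?_
    show g * a * g⁻¹ * (g * b * g⁻¹) = g * b * g⁻¹ * (g * a * g⁻¹)
    rw [show g * a * g⁻¹ * (g * b * g⁻¹) = g * (a * b) * g⁻¹ by group, m.comm ha hb]
    group
  · rintro _ ⟨a, ha, rfl⟩
    rw [← map_pow, pow_two, m.sq ha, map_one]

/-- A conjugate of `A` in `S` is `A`. -/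
theorem cA_eq {g : G} (h : m.cA g ≤ (m.S : Subgroup G)) : m.cA g = m.A :=
  m.uniq _ h (m.cA_elem g).1
    ((card_map_of_injective (f := (MulAut.conj g).toMonoidHom) (MulAut.conj g).injective).trans m.card_A)

theorem map_cA (c g : G) : (m.cA g).map (MulAut.conj c).toMonoidHom = m.cA (c * g) := by
  rw [Subgroup.map_map]
  congr 1
  ext x
  show c * (g * x * g⁻¹) * c⁻¹ = c * g * x * (c * g)⁻¹
  group

theorem cA_inv {g : G} (h : m.cA g = m.A) : g ∈ normalizer (m.A : Set G) :=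
  mem_normalizer_fintype fun a ha => h.le ⟨a, ha, rfl⟩

/-- A 2-group containing a conjugate of `A` normalises it. -/
theorem le_normalizer_cA {R : Subgroup G} (hR : IsPGroup 2 R) {g : G} (hgR : m.cA g ≤ R) :
    R ≤ normalizer (m.cA g : Set G) := by
  haveI : Fact (Nat.Prime 2) := ⟨Nat.prime_two⟩
  obtain ⟨P, hP⟩ := hR.exists_le_sylow
  obtain ⟨c, hc⟩ := MulAction.exists_smul_eq G P m.S
  have hmem : ∀ r ∈ R, c * r * c⁻¹ ∈ (m.S : Subgroup G) := fun r hr => by
    rw [← hc, Sylow.coe_subgroup_smul, ← Grp.map_conj_eq_smul]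
    exact ⟨r, hP hr, rfl⟩
  have hcg : m.cA (c * g) = m.A := m.cA_eq (by
    rw [← m.map_cA]
    rintro _ ⟨x, hx, rfl⟩
    exact hmem x (hgR hx))
  refine fun r hr => mem_normalizer_fintype fun x hx => ?_
  have h1 : c * x * c⁻¹ ∈ m.A := by
    rw [← hcg, ← m.map_cA]; exact ⟨x, hx, rfl⟩
  have h2 := m.conj_mem (hmem r hr) h1
  rw [← hcg, ← m.map_cA] at h2
  obtain ⟨y, hy, hy'⟩ := h2
  have e : y = r * x * r⁻¹ := (MulAut.conj c).injective (hy'.trans (by
    show c * r * c⁻¹ * (c * x * c⁻¹) * (c * r * c⁻¹)⁻¹ = c * (r * x * r⁻¹) * c⁻¹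
    group))
  rw [SetLike.mem_coe, ← e]
  exact hy

/-- A part of `A` normalising a subgroup of a conjugate normalises a conjugate containing that subgroup. -/
theorem exists_cA {U M : Subgroup G} {g : G} (hU : U ≤ m.cA g) (hM : M ≤ m.A)
    (hMU : M ≤ normalizer (U : Set G)) : ∃ g', U ≤ m.cA g' ∧ M ≤ normalizer (m.cA g' : Set G) := by
  haveI : Fact (Nat.Prime 2) := ⟨Nat.prime_two⟩
  set N := normalizer (U : Set G)
  have hgN : m.cA g ≤ N := le_trans (fun x hx => mem_centralizer_iff.2 fun v hv =>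
    congrArg Subtype.val ((m.cA_elem g).1.is_comm.comm (⟨v, hU hv⟩ : m.cA g) ⟨x, hx⟩))
    (centralizer_le_normalizer _)
  obtain ⟨R, hR⟩ := ((Grp.elemAb_isPGroup (m.cA_elem g)).comap_of_injective _ N.subtype_injective).exists_le_sylow
  obtain ⟨R', hR'⟩ := ((m.S.isPGroup'.to_le (hM.trans m.le)).comap_of_injective _ N.subtype_injective).exists_le_sylow
  obtain ⟨⟨h, hh⟩, hhR⟩ := MulAction.exists_smul_eq ↥N R' R
  have hMR : ∀ x ∈ M, h * x * h⁻¹ ∈ (R : Subgroup ↥N).map N.subtype := fun x hx => by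
    refine ⟨⟨h, hh⟩ * ⟨x, hMU hx⟩ * ⟨h, hh⟩⁻¹, ?_, rfl⟩
    rw [SetLike.mem_coe, ← hhR, Sylow.coe_subgroup_smul, ← Grp.map_conj_eq_smul]
    exact ⟨_, hR' (mem_subgroupOf.2 hx), rfl⟩
  have hnorm := m.le_normalizer_cA (R := (R : Subgroup ↥N).map N.subtype) (R.isPGroup'.map _) (g := g)
    fun x hx => ⟨⟨x, hgN hx⟩, hR hx, rfl⟩
  refine ⟨h⁻¹ * g, fun v hv => ?_, fun x hx => mem_normalizer_fintype fun y hy => ?_⟩
  · have h1 := hU ((mem_normalizer_iff.1 hh v).1 hv)
    rw [m.mem_cA] at h1 ⊢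
    rwa [show (h⁻¹ * g)⁻¹ * v * (h⁻¹ * g) = g⁻¹ * (h * v * h⁻¹) * g by group]
  · rw [← m.map_cA] at hy ⊢
    obtain ⟨z, hz, rfl⟩ := hy
    refine ⟨_, (mem_normalizer_iff.1 (hnorm (hMR x hx)) z).1 hz, ?_⟩
    show h⁻¹ * (h * x * h⁻¹ * z * (h * x * h⁻¹)⁻¹) * h⁻¹⁻¹ = x * (h⁻¹ * z * h⁻¹⁻¹) * x⁻¹
    group

/-- `A` is strongly closed in `S`. -/
theorem stronglyClosed : Cfsg.IsStronglyClosed m.A (m.S : Subgroup G) := by
  classical
  haveI : Fact (Nat.Prime 2) := ⟨Nat.prime_two⟩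
  set S := (m.S : Subgroup G)
  by_contra hno
  obtain ⟨x, hx, g, hgS, hgA⟩ : ∃ x ∈ m.A, ∃ g : G, g * x * g⁻¹ ∈ S ∧ g * x * g⁻¹ ∉ m.A := by
    by_contra h
    push Not at h
    exact hno ⟨m.le, h⟩
  obtain ⟨g₀, hg₀, hmax⟩ := Set.exists_max_image {g : G | ¬ m.cA g ⊓ S ≤ m.A}
    (fun g => Nat.card ↥(m.cA g ⊓ S)) (Set.toFinite _) ⟨g, fun h => hgA (h ⟨⟨x, hx, rfl⟩, hgS⟩)⟩
  set U := m.cA g₀ ⊓ S
  set μ := Nat.card ↥U
  -- a part of `A` normalising a subgroup outside `A` of a conjugate has order at most `μ`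
  have key : ∀ {U₀ : Subgroup G} {g : G}, U₀ ≤ m.cA g → U₀ ≤ S → ¬ U₀ ≤ m.A → ∀ {M : Subgroup G}, M ≤ m.A →
      M ≤ normalizer (U₀ : Set G) → Nat.card ↥M ≤ μ ∧ (Nat.card ↥M = μ → ∃ c,
        ¬ m.cA c ⊓ S ≤ m.A ∧ M.map (MulAut.conj c).toMonoidHom ≤ m.cA c ⊓ S ∧
          U₀.map (MulAut.conj c).toMonoidHom ≤ m.A) := by
    intro U₀ g hU₀ hU₀S hU₀A M hM hMU
    obtain ⟨g', hg', hMg⟩ := m.exists_cA hU₀ hM hMU
    by_cases hMle : M ≤ m.cA g'
    · have hsup : M ⊔ U₀ ≤ m.cA g' ⊓ S := sup_le (le_inf hMle (hM.trans m.le)) (le_inf hg' hU₀S)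
      have hmem : ¬ m.cA g' ⊓ S ≤ m.A := fun h => hU₀A ((le_sup_right.trans hsup).trans h)
      have h1 := (card_le_of_le hsup).trans (hmax g' hmem)
      refine ⟨(card_le_of_le le_sup_left).trans h1, fun he => absurd ?_ hU₀A⟩
      have := eq_of_le_of_card_ge (le_sup_left : M ≤ M ⊔ U₀) (h1.trans_eq he.symm)
      exact (this ▸ le_sup_right : U₀ ≤ M).trans hM
    · set R := M ⊔ m.cA g'
      have hR : IsPGroup 2 ↥R :=
        (m.S.isPGroup'.to_le (hM.trans m.le)).to_sup_of_normal_right' (Grp.elemAb_isPGroup (m.cA_elem g')) hMg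
      obtain ⟨P, hP⟩ := hR.exists_le_sylow
      obtain ⟨c, hc⟩ := MulAction.exists_smul_eq G P m.S
      have hmem : ∀ r ∈ R, c * r * c⁻¹ ∈ S := fun r hr => by
        rw [show S = ((c • P : Sylow 2 G) : Subgroup G) by rw [hc], Sylow.coe_subgroup_smul, ← Grp.map_conj_eq_smul]
        exact ⟨r, hP hr, rfl⟩
      have hcg : m.cA (c * g') = m.A := m.cA_eq (by
        rw [← m.map_cA]
        rintro _ ⟨y, hy, rfl⟩
        exact hmem y (mem_sup_right hy))
      have hsub : M.map (MulAut.conj c).toMonoidHom ≤ m.cA c ⊓ S := le_inf (map_mono hM) (by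
        rintro _ ⟨y, hy, rfl⟩
        exact hmem y (mem_sup_left hy))
      have hout : ¬ m.cA c ⊓ S ≤ m.A := fun h => hMle (by
        have h1 : M.map (MulAut.conj c).toMonoidHom ≤ (m.cA g').map (MulAut.conj c).toMonoidHom := by
          rw [m.map_cA, hcg]; exact hsub.trans h
        exact (map_le_map_iff_of_injective (MulAut.conj c).injective).1 h1)
      refine ⟨?_, fun _ => ⟨c, hout, hsub, by rw [← hcg, ← m.map_cA]; exact map_mono hg'⟩⟩
      rw [← card_map_of_injective (K := M) (f := (MulAut.conj c).toMonoidHom) (MulAut.conj c).injective]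
      exact (card_le_of_le hsub).trans (hmax c hout)
  -- `μ ≥ 16`
  have h16 : 16 ≤ μ := by
    set t := g * x * g⁻¹
    have htg : t ∈ m.cA g := ⟨x, hx, rfl⟩
    have htt : t * t = 1 := by
      rw [show t * t = g * (x * x) * g⁻¹ by simp only [t]; group, m.sq hx]; group
    have hMN : m.A ⊓ centralizer ({t} : Set G) ≤ normalizer (zpowers t : Set G) := by
      intro a ha
      refine centralizer_le_normalizer _ (mem_centralizer_iff.2 ?_)
      rintro _ ⟨i, rfl⟩
      exact ((show Commute a t from mem_centralizer_singleton_iff.1 ha.2).zpow_right i).eq.symm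
    refine le_trans (le_of_eq ?_) (key (zpowers_le.2 htg) (zpowers_le.2 hgS) (fun h => hgA (h (mem_zpowers t)))
      (inf_le_left : m.A ⊓ centralizer ({t} : Set G) ≤ m.A) hMN).1
    have hinv : isInv (m.mid t) = true := by
      have h1 : M24Quot.umul (m.mid t) (m.mid t) = M24Quot.u0 := by rw [← m.mid_mul hgS hgS, htt, m.mid_one]
      have h2 : m.mid t ≠ M24Quot.u0 := fun e => hgA ((m.mem_A hgS).2 e)
      simp [isInv, h1, h2]
    rw [m.card_of_vec inf_le_left (F := fix1 (m.mid t)) fun a ha => by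
      rw [mem_inf, mem_centralizer_singleton_iff, eq_comm, m.commute_iff hgS ha]
      simp [fix1, ha], fix1_card _ hinv]
  have helU : Cfsg.IsElementaryAbelian 2 U := Grp.elemAb_mono (m.cA_elem g₀) inf_le_left
  set N := m.A ⊓ normalizer (U : Set G)
  obtain ⟨hNμ, hNeq⟩ := key (U₀ := U) (g := g₀) inf_le_left inf_le_right hg₀ (inf_le_left : N ≤ m.A) inf_le_right
  rcases m.normalizer_large (U := U) inf_le_right helU hg₀ h16 with h | ⟨he, h4⟩
  · omega
  obtain ⟨c, hout, hsub, hUc⟩ := hNeq he.symm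
  set φ := (MulAut.conj c).toMonoidHom
  have hinj : Function.Injective φ := (MulAut.conj c).injective
  set U' := m.cA c ⊓ S
  have hcard' : Nat.card ↥U' ≤ μ := hmax c hout
  have hU' : N.map φ = U' :=
    eq_of_le_of_card_ge hsub (by rw [card_map_of_injective hinj, ← he]; exact hcard')
  -- `U` moves to the part of `A` normalising the new member
  have hUn : U.map φ ≤ m.A ⊓ normalizer (U' : Set G) := by
    refine le_inf hUc ?_
    rw [← hU']
    rintro _ ⟨w, hw, rfl⟩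
    refine mem_normalizer_fintype ?_
    rintro _ ⟨a, ha, rfl⟩
    refine ⟨w * a * w⁻¹, ?_, by simp⟩
    have h1 := m.bracket_mem_of_normalizer inf_le_right ha hw
    rw [show w * a * w⁻¹ = w * a * w⁻¹ * a⁻¹ * a by group]
    exact N.mul_mem ⟨h1.1, (le_normalizer (H := U)) h1.2⟩ ha
  obtain ⟨hb, -⟩ := key (U₀ := U') (g := c) inf_le_left inf_le_right hout (inf_le_left : m.A ⊓ normalizer (U' : Set G) ≤ m.A)
    inf_le_right
  have hNU' : U.map φ = m.A ⊓ normalizer (U' : Set G) :=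
    eq_of_le_of_card_ge hUn (by rw [card_map_of_injective hinj]; exact hb)
  have h8 := m.eight_le_centralizer (U := U') inf_le_right (Grp.elemAb_mono (m.cA_elem c) (inf_le_left : U' ≤ m.cA c))
  have hsub8 : m.A ⊓ centralizer (U' : Set G) ≤ (U ⊓ centralizer (N : Set G)).map φ := by
    intro a ha
    obtain ⟨w, hw, rfl⟩ := hNU'.ge ⟨ha.1, centralizer_le_normalizer _ ha.2⟩
    refine ⟨w, ⟨hw, mem_centralizer_iff.2 fun n hn => hinj ?_⟩, rfl⟩
    rw [map_mul, map_mul]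
    exact mem_centralizer_iff.1 ha.2 _ (hU' ▸ ⟨n, hn, rfl⟩)
  have := (h8.trans (card_le_of_le hsub8)).trans_eq (card_map_of_injective hinj)
  exact absurd (this.trans h4) (by norm_num)

end Shape

end Cfsg.Agent.Spor.M24Closed
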