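import Cfsg.Agent.Lib.Spor.M24Closed.Model
import Cfsg.Agent.Lib.Grp.Frattini

/-!
# Elementary subgroups of `S` outside `A` (for S3169)

Such a subgroup `U` of order at least 16 has a normaliser in `A` of larger order, or of the same order and then
centralising at most four elements of `U`; and the centraliser of any elementary subgroup in `A` has order at
least 8.
-/

set_option autoImplicit false
set_option linter.unusedSectionVars false
set_option linter.style.haveILetI false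

namespace Cfsg.Agent.Spor.M24Closed

open Subgroup Cfsg.Agent.Spor.M24Quot

universe u

variable {G : Type u} [Group G] [Finite G] (m : Shape G)

namespace Shape

/-- The middle blocks of an elementary subgroup outside `A`. -/
theorem mid_cases {U : Subgroup G} (hU : U ≤ (m.S : Subgroup G)) (he : Cfsg.IsElementaryAbelian 2 U)
    (hne : ¬ U ≤ m.A) :
    (∃ t ∈ U, isInv (m.mid t) = true ∧ ∀ w ∈ U, m.mid w = u0 ∨ m.mid w = m.mid t) ∨
      ∃ t ∈ U, ∃ s ∈ U, isPair (m.mid t) (m.mid s) = true ∧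
        ∀ w ∈ U, m.mid w = u0 ∨ m.mid w = m.mid t ∨ m.mid w = m.mid s ∨ m.mid w = m.mid (t * s) := by
  have hc : ∀ v ∈ U, ∀ w ∈ U, v * w = w * v := fun v hv w hw =>
    congrArg Subtype.val (he.1.is_comm.comm (⟨v, hv⟩ : U) ⟨w, hw⟩)
  have hinv : ∀ w ∈ U, w ∉ m.A → isInv (m.mid w) = true := fun w hw hwA => by
    have h1 : umul (m.mid w) (m.mid w) = u0 := by
      rw [← m.mid_mul (hU hw) (hU hw), show w * w = 1 by rw [← pow_two]; exact he.2 w hw, m.mid_one]
    have h2 : m.mid w ≠ u0 := fun e => hwA ((m.mem_A (hU hw)).2 e)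
    simp [isInv, h1, h2]
  have hcm : ∀ v ∈ U, ∀ w ∈ U, umul (m.mid v) (m.mid w) = umul (m.mid w) (m.mid v) := fun v hv w hw => by
    rw [← m.mid_mul (hU hv) (hU hw), ← m.mid_mul (hU hw) (hU hv), hc v hv w hw]
  obtain ⟨t, ht, htA⟩ := SetLike.not_le_iff_exists.1 hne
  by_cases h1 : ∀ w ∈ U, m.mid w = u0 ∨ m.mid w = m.mid t
  · exact Or.inl ⟨t, ht, hinv t ht htA, h1⟩
  push Not at h1
  obtain ⟨s, hs, hs0, hst⟩ := h1
  have hsA : s ∉ m.A := fun e => hs0 ((m.mem_A (hU hs)).1 e)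
  have hp : isPair (m.mid t) (m.mid s) = true := by
    simp [isPair, hinv t ht htA, hinv s hs hsA, Ne.symm hst, hcm t ht s hs]
  refine Or.inr ⟨t, ht, s, hs, hp, fun w hw => ?_⟩
  by_cases hwA : w ∈ m.A
  · exact Or.inl ((m.mem_A (hU hw)).1 hwA)
  rw [m.mid_mul (hU ht) (hU hs)]
  exact Or.inr (mid_card _ _ hp _ (hinv w hw hwA) (hcm w hw t ht) (hcm w hw s hs))

/-- The centraliser in `A` of an elementary subgroup of `S` has order at least 8. -/
theorem eight_le_centralizer {U : Subgroup G} (hU : U ≤ (m.S : Subgroup G)) (he : Cfsg.IsElementaryAbelian 2 U) :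
    8 ≤ Nat.card ↥(m.A ⊓ centralizer (U : Set G)) := by
  by_cases hne : U ≤ m.A
  · rw [inf_eq_left.2 fun a ha => mem_centralizer_iff.2 fun w hw => m.comm (hne hw) ha, m.card_A]
    norm_num
  have key : ∀ F : Finset Outer, 8 ≤ F.card →
      (∀ a ∈ m.A, m.vec a ∈ F → ∀ w ∈ U, dd (m.mid w) (m.vec a) = v0) →
      8 ≤ Nat.card ↥(m.A ⊓ centralizer (U : Set G)) := by
    intro F hF h
    classical
    refine hF.trans ?_
    rw [← Nat.card_eq_finsetCard]
    choose a ha hav using fun v : ↥F => m.vec_surj v.1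
    refine Nat.card_le_card_of_injective (fun v : ↥F => (⟨a v, ha v, mem_centralizer_iff.2 fun w hw =>
      (m.commute_iff (hU hw) (ha v)).2 (h _ (ha v) ((hav v).symm ▸ v.2) w hw)⟩ : ↥(m.A ⊓ centralizer (U : Set G))))
      fun v w e => Subtype.ext ?_
    rw [← hav v, ← hav w, show a v = a w from congrArg Subtype.val e]
  have hdd0 : ∀ v : Outer, dd u0 v = v0 := by decide +kernel
  rcases m.mid_cases hU he hne with ⟨t, ht, hti, hall⟩ | ⟨t, ht, s, hs, hp, hall⟩
  · refine key (fix1 (m.mid t)) (by rw [fix1_card _ hti]; norm_num) fun a _ hav w hw => ?_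
    rcases hall w hw with e | e <;> rw [e]
    exacts [hdd0 _, (Finset.mem_filter.1 hav).2]
  · refine key (fix2 (m.mid t) (m.mid s)) (fix2_card _ _ hp).ge fun a ha hav w hw => ?_
    obtain ⟨h1, h2⟩ := Finset.mem_filter.1 hav
    have h1' := (Finset.mem_filter.1 h1).2
    rcases hall w hw with e | e | e | e <;> rw [e]
    · exact hdd0 _
    · exact h1'
    · exact h2
    · have c1 := (m.commute_iff (hU ht) ha).2 h1'
      have c2 := (m.commute_iff (hU hs) ha).2 h2
      exact (m.commute_iff (mul_mem (hU ht) (hU hs)) ha).1 ((show Commute t a from c1).mul_left c2)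

/-- The elements of `A` normalising `U`, from the generators. -/
theorem mem_normalizer_of_gen {U : Subgroup G} (hU : U ≤ (m.S : Subgroup G)) {a : G} (ha : a ∈ m.A)
    (T : Set G) (hT : T ⊆ U) (hgen : ∀ w ∈ U, w ∈ m.A ∨ ∃ t ∈ T, w * t⁻¹ ∈ m.A)
    (h : ∀ t ∈ T, t * a * t⁻¹ * a⁻¹ ∈ U) : a ∈ normalizer (U : Set G) := by
  refine mem_normalizer_fintype fun w hw => ?_
  rcases hgen w hw with hwA | ⟨t, ht, htw⟩
  · rw [m.comm ha hwA, mul_inv_cancel_right]; exact hw
  · have hi : w * t⁻¹ ∈ U := mul_mem hw (inv_mem (hT ht))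
    rw [show a * w * a⁻¹ = a * (w * t⁻¹) * a⁻¹ * ((t * a * t⁻¹ * a⁻¹)⁻¹ * t) by group, m.comm ha htw,
      mul_inv_cancel_right]
    exact mul_mem hi (mul_mem (inv_mem (h t ht)) (hT ht))

theorem bracket_mem_of_normalizer {U : Subgroup G} (hU : U ≤ (m.S : Subgroup G)) {a w : G}
    (ha : a ∈ m.A ⊓ normalizer (U : Set G)) (hw : w ∈ U) : w * a * w⁻¹ * a⁻¹ ∈ m.A ⊓ U := by
  refine ⟨m.A.mul_mem (m.conj_mem (hU hw) ha.1) (m.A.inv_mem ha.1), ?_⟩
  rw [show w * a * w⁻¹ * a⁻¹ = w * (a * w⁻¹ * a⁻¹) by group]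
  exact mul_mem hw ((mem_normalizer_iff.1 ha.2 _).1 (inv_mem hw))

/-- A large elementary subgroup outside `A` has a large normaliser in `A`. -/
theorem normalizer_large {U : Subgroup G} (hU : U ≤ (m.S : Subgroup G)) (he : Cfsg.IsElementaryAbelian 2 U)
    (hne : ¬ U ≤ m.A) (h16 : 16 ≤ Nat.card ↥U) :
    Nat.card ↥U < Nat.card ↥(m.A ⊓ normalizer (U : Set G)) ∨
      (Nat.card ↥U = Nat.card ↥(m.A ⊓ normalizer (U : Set G)) ∧
        Nat.card ↥(U ⊓ centralizer ((m.A ⊓ normalizer (U : Set G) : Subgroup G) : Set G)) ≤ 4) := by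
  classical
  haveI : Fact (Nat.Prime 2) := ⟨Nat.prime_two⟩
  set I := m.A ⊓ U
  set N := m.A ⊓ normalizer (U : Set G)
  obtain ⟨k, hk⟩ := IsPGroup.iff_card.1 (m.S.isPGroup'.to_le hU)
  obtain ⟨l, hl⟩ := IsPGroup.iff_card.1 (m.S.isPGroup'.to_le ((inf_le_left : I ≤ m.A).trans m.le))
  have hA64 : ∀ {X : Subgroup G}, X ≤ m.A → m.A ≤ X → Nat.card ↥X = 64 := fun h1 h2 => by
    rw [le_antisymm h1 h2, m.card_A]
  have hbound : ∀ {n : ℕ} (T : Fin n → G), (∀ w ∈ U, w ∈ m.A ∨ ∃ i, w * (T i)⁻¹ ∈ m.A) → (∀ i, T i ∈ U) →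
      Nat.card ↥U ≤ (n + 1) * Nat.card ↥I := by
    intro n T hgen hT
    let T' : Option (Fin n) → G := fun o => o.elim 1 T
    have hT' : ∀ o, T' o ∈ U := fun o => by cases o; exacts [one_mem _, hT _]
    refine (Nat.card_le_card_of_surjective (fun p : Option (Fin n) × ↥I =>
      (⟨p.2 * T' p.1, mul_mem p.2.2.2 (hT' p.1)⟩ : ↥U)) ?_).trans_eq (by rw [Nat.card_prod]; simp)
    rintro ⟨w, hw⟩
    rcases hgen w hw with h | ⟨i, h⟩
    · exact ⟨(none, ⟨w, h, hw⟩), Subtype.ext (by simp [T'])⟩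
    · exact ⟨(some i, ⟨_, h, U.mul_mem hw (U.inv_mem (hT i))⟩), Subtype.ext (by simp [T'])⟩
  have hdiv : ∀ {v w : G}, v ∈ (m.S : Subgroup G) → w ∈ (m.S : Subgroup G) → m.mid v = m.mid w →
      v * w⁻¹ ∈ m.A := fun {v w} hv hw e => by
    rw [m.mem_A (mul_mem hv (inv_mem hw)), m.mid_mul hv (inv_mem hw), e, ← m.mid_mul hw (inv_mem hw),
      mul_inv_cancel, m.mid_one]
  rcases m.mid_cases hU he hne with ⟨t, ht, hti, hall⟩ | ⟨t, ht, s, hs, hp, hall⟩
  · -- one involution
    left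
    have hgen : ∀ w ∈ U, w ∈ m.A ∨ ∃ x ∈ ({t} : Set G), w * x⁻¹ ∈ m.A := fun w hw =>
      (hall w hw).imp (fun e => (m.mem_A (hU hw)).2 e) fun e => ⟨t, rfl, hdiv (hU hw) (hU ht) e⟩
    have hU2 : Nat.card ↥U ≤ 2 * Nat.card ↥I := hbound (n := 1) (fun _ => t)
      (fun w hw => (hall w hw).imp (fun e => (m.mem_A (hU hw)).2 e) fun e => ⟨0, hdiv (hU hw) (hU ht) e⟩) fun _ => ht
    set C := m.A ⊓ centralizer ({t} : Set G)
    have hmemC : ∀ {x : G}, x ∈ m.A → (x ∈ C ↔ dd (m.mid t) (m.vec x) = v0) := fun {x} hx => by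
      rw [← m.commute_iff (hU ht) hx]
      exact ⟨fun h => (mem_centralizer_singleton_iff.1 h.2).symm,
        fun h => ⟨hx, mem_centralizer_singleton_iff.2 h.symm⟩⟩
    have hC16 : Nat.card ↥C = 16 := by
      rw [m.card_of_vec inf_le_left (F := fix1 (m.mid t)) fun x hx => by rw [hmemC hx]; simp [fix1]]
      exact fix1_card _ hti
    have hIC : I ≤ C := fun x hx => ⟨hx.1, mem_centralizer_singleton_iff.2
      (congrArg Subtype.val (he.1.is_comm.comm (⟨x, hx.2⟩ : U) ⟨t, ht⟩))⟩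
    have htt : t * t = 1 := by rw [← pow_two]; exact he.2 t ht
    have hCN : C ≤ N := fun x hx => ⟨hx.1, m.mem_normalizer_of_gen hU hx.1 _ (by simpa using ht) hgen
      (by intro w hw; rw [Set.mem_singleton_iff.1 hw, ← mem_centralizer_singleton_iff.1 hx.2, mul_inv_cancel_right, mul_inv_cancel]; exact one_mem _)⟩
    -- the commutators with `t`
    let δ : ↥m.A →* ↥m.A :=
      { toFun := fun x => ⟨t * x * t⁻¹ * (x : G)⁻¹, mul_mem (m.conj_mem (hU ht) x.2) (inv_mem x.2)⟩
        map_one' := Subtype.ext (by simp)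
        map_mul' := fun x y => Subtype.ext (by
          show t * ((x : G) * y) * t⁻¹ * ((x : G) * y)⁻¹ = t * x * t⁻¹ * (x : G)⁻¹ * (t * y * t⁻¹ * (y : G)⁻¹)
          calc t * ((x : G) * y) * t⁻¹ * ((x : G) * y)⁻¹
              = t * x * t⁻¹ * (t * y * t⁻¹ * (y : G)⁻¹ * (x : G)⁻¹) := by group
            _ = t * x * t⁻¹ * ((x : G)⁻¹ * (t * y * t⁻¹ * (y : G)⁻¹)) := by
                rw [m.comm (inv_mem x.2) (mul_mem (m.conj_mem (hU ht) y.2) (inv_mem y.2))]
            _ = _ := by group) }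
    have hker : δ.ker = C.subgroupOf m.A := by
      ext x
      rw [MonoidHom.mem_ker, mem_subgroupOf, hmemC x.2, ← m.conj_A_eq (hU ht) x.2,
        m.vec_eq_v0 (mul_mem (m.conj_mem (hU ht) x.2) (inv_mem x.2))]
      exact ⟨fun h => congrArg Subtype.val h, fun h => Subtype.ext h⟩
    set W := δ.range.map m.A.subtype
    have hW4 : Nat.card ↥W = 4 := by
      have h1 := δ.ker.card_mul_index
      rw [Subgroup.index_ker, hker, Nat.card_congr (subgroupOfEquivOfLe (inf_le_left : C ≤ m.A)).toEquiv,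
        hC16, m.card_A] at h1
      rw [card_map_of_injective m.A.subtype_injective]
      omega
    have hWC : W ≤ C := by
      rintro _ ⟨_, ⟨x, rfl⟩, rfl⟩
      refine (hmemC (δ x).2).2 ?_
      show dd (m.mid t) (m.vec (t * x * t⁻¹ * (x : G)⁻¹)) = v0
      rw [m.conj_A_eq (hU ht) x.2]
      have hdd : ∀ f : Mid, isInv f = true → ∀ v : Outer, dd f (dd f v) = v0 := by decide +kernel
      exact hdd _ hti _
    by_cases hI : C ≤ I
    · have : m.A ≤ N := fun x hx => ⟨hx, m.mem_normalizer_of_gen hU hx _ (by simpa using ht) hgen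
        (by intro w hw; rw [Set.mem_singleton_iff.1 hw]; exact (hI (hWC ⟨δ ⟨x, hx⟩, ⟨_, rfl⟩, rfl⟩)).2)⟩
      have h1 := hA64 (X := N) inf_le_left this
      have h2 := card_le_of_le hIC
      omega
    · have hlt : Nat.card ↥I < 16 := by
        rw [← hC16]
        exact lt_of_le_of_ne (card_le_of_le hIC) fun e => hI (eq_of_le_of_card_ge hIC e.ge).ge
      have hmeet : I ⊓ W ≠ ⊥ := fun h => by
        have h1 := Grp.card_sup_mul_card_inf (H := I) (N := W) (((inf_le_left : I ≤ m.A).trans fun x hx =>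
          mem_centralizer_iff.2 fun v hv => m.comm (hWC hv).1 hx).trans (centralizer_le_normalizer _))
        rw [h, Subgroup.card_bot, mul_one, hW4] at h1
        have h2 := card_le_of_le (sup_le hIC hWC)
        omega
      obtain ⟨⟨i, hiI, hiW⟩, hi1⟩ := ne_bot_iff_exists_ne_one.1 hmeet
      obtain ⟨_, ⟨x, rfl⟩, hxi⟩ := hiW
      have hxN : (x : G) ∈ N := ⟨x.2, m.mem_normalizer_of_gen hU x.2 _ (by simpa using ht) hgen
        (by intro w hw; rw [Set.mem_singleton_iff.1 hw]; exact (show t * x * t⁻¹ * (x : G)⁻¹ = i from hxi) ▸ hiI.2)⟩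
      have hxC : (x : G) ∉ C := fun h => hi1 (Subtype.ext (by
        show i = 1
        rw [← hxi]
        have : x ∈ δ.ker := by rw [hker]; exact h
        rw [MonoidHom.mem_ker.1 this, map_one]))
      have hlt2 : Nat.card ↥C < Nat.card ↥N :=
        lt_of_le_of_ne (card_le_of_le hCN) fun e => hxC ((eq_of_le_of_card_ge hCN e.ge).ge hxN)
      obtain ⟨j, hj⟩ := IsPGroup.iff_card.1 (m.S.isPGroup'.to_le ((inf_le_left : N ≤ m.A).trans m.le))
      rw [hC16, hj] at hlt2
      have : 4 < j := (Nat.pow_lt_pow_iff_right (le_refl 2)).1 hlt2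
      have h32 : 2 ^ 5 ≤ 2 ^ j := Nat.pow_le_pow_right two_pos this
      rw [hj]
      omega
  · -- a four-group
    have hgen : ∀ w ∈ U, w ∈ m.A ∨ ∃ x ∈ ({t, s, t * s} : Set G), w * x⁻¹ ∈ m.A := fun w hw => by
      rcases hall w hw with e | e | e | e
      · exact Or.inl ((m.mem_A (hU hw)).2 e)
      · exact Or.inr ⟨t, by simp, hdiv (hU hw) (hU ht) e⟩
      · exact Or.inr ⟨s, by simp, hdiv (hU hw) (hU hs) e⟩
      · exact Or.inr ⟨t * s, by simp, hdiv (hU hw) (mul_mem (hU ht) (hU hs)) e⟩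
    have hU4 : Nat.card ↥U ≤ 4 * Nat.card ↥I := hbound (n := 3) ![t, s, t * s]
      (fun w hw => (hgen w hw).imp_right fun ⟨x, hx, h⟩ => by
        rcases hx with rfl | rfl | rfl
        exacts [⟨0, h⟩, ⟨1, h⟩, ⟨2, h⟩])
      (fun i => by fin_cases i <;> simp [ht, hs, mul_mem ht hs])
    set F := fix2 (m.mid t) (m.mid s)
    have hIF : ∀ x ∈ I, m.vec x ∈ F := fun x hx => by
      have hc : ∀ w ∈ U, dd (m.mid w) (m.vec x) = v0 := fun w hw => (m.commute_iff (hU hw) hx.1).1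
        (congrArg Subtype.val (he.1.is_comm.comm (⟨w, hw⟩ : U) ⟨x, hx.2⟩))
      exact Finset.mem_filter.2 ⟨Finset.mem_filter.2 ⟨Finset.mem_univ _, hc t ht⟩, hc s hs⟩
    have hnorm : ∀ {x : G}, x ∈ m.A → t * x * t⁻¹ * x⁻¹ ∈ I → s * x * s⁻¹ * x⁻¹ ∈ I → x ∈ N := fun {x} hx h1 h2 =>
      ⟨hx, m.mem_normalizer_of_gen hU hx _ (by
        rintro w (rfl | rfl | rfl)
        exacts [ht, hs, mul_mem ht hs]) hgen (by
        rintro w (rfl | rfl | rfl)
        · exact h1.2
        · exact h2.2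
        · rw [show t * s * x * (t * s)⁻¹ * x⁻¹ = t * (s * x * s⁻¹ * x⁻¹) * t⁻¹ * (t * x * t⁻¹ * x⁻¹) by group]
          exact mul_mem (mul_mem (mul_mem ht h2.2) (inv_mem ht)) h1.2)⟩
    by_cases hI : ∀ x ∈ m.A, m.vec x ∈ F → x ∈ I
    · left
      have : m.A ≤ N := fun x hx => hnorm hx
        (hI _ (mul_mem (m.conj_mem (hU ht) hx) (inv_mem hx)) (by
          rw [m.conj_A_eq (hU ht) hx]; exact dd_le_fix2 _ _ hp _))
        (hI _ (mul_mem (m.conj_mem (hU hs) hx) (inv_mem hx)) (by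
          rw [m.conj_A_eq (hU hs) hx]
          have hp' : isPair (m.mid s) (m.mid t) = true := by
            simp [isPair] at hp ⊢; tauto
          have h := dd_le_fix2 _ _ hp' (m.vec x)
          simp [F, fix2, fix1] at h ⊢
          tauto))
      have h1 := hA64 (X := N) inf_le_left this
      have h2 : Nat.card ↥I ≤ F.card := by
        rw [← Nat.card_eq_finsetCard]
        exact Nat.card_le_card_of_injective (fun x : ↥I => (⟨m.vec x, hIF x x.2⟩ : ↥F))
          fun x y e => Subtype.ext (m.vec_inj x.2.1 y.2.1 (congrArg Subtype.val e))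
      have h3 : F.card = 8 := fix2_card _ _ hp
      omega
    -- `I` has order four
    push Not at hI
    obtain ⟨x₀, hx₀, hx₀F, hx₀I⟩ := hI
    have hlt8 : Nat.card ↥I < 8 := by
      let img : Finset Outer := Finset.univ.filter fun v => ∃ x ∈ I, m.vec x = v
      have h0 : Nat.card ↥I = img.card := m.card_of_vec inf_le_left fun a ha =>
        ⟨fun h => Finset.mem_filter.2 ⟨Finset.mem_univ _, a, h, rfl⟩, fun h => by
          obtain ⟨-, x, hx, e⟩ := Finset.mem_filter.1 h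
          exact m.vec_inj hx.1 ha e ▸ hx⟩
      rw [h0, ← fix2_card _ _ hp]
      refine Finset.card_lt_card ((Finset.ssubset_iff_of_subset fun v hv => ?_).2 ⟨m.vec x₀, hx₀F, fun h => ?_⟩)
      · obtain ⟨-, x, hx, rfl⟩ := Finset.mem_filter.1 hv
        exact hIF x hx
      · obtain ⟨-, x, hx, e⟩ := Finset.mem_filter.1 h
        exact hx₀I (m.vec_inj hx.1 hx₀ e ▸ hx)
    rw [hl] at hlt8 hU4
    have hl3 : l < 3 := (Nat.pow_lt_pow_iff_right (le_refl 2)).1 hlt8
    have hl2 : l = 2 := by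
      by_contra hne2
      have : l ≤ 1 := by omega
      have := Nat.pow_le_pow_right (show 0 < 2 from two_pos) this
      omega
    have hI4 : Nat.card ↥I = 4 := by rw [hl, hl2]; norm_num
    have hU16 : Nat.card ↥U = 16 := le_antisymm (by rw [hl2] at hU4; omega) h16
    -- its three non-trivial elements
    obtain ⟨⟨i, hi⟩, hi1⟩ := (show I ≠ ⊥ from fun e => by rw [e, Subgroup.card_bot] at hI4; omega) |>
      ne_bot_iff_exists_ne_one.1
    have hi1' : i ≠ 1 := fun e => hi1 (Subtype.ext e)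
    obtain ⟨j, hj, hji⟩ : ∃ j ∈ I, j ∉ zpowers i := SetLike.not_le_iff_exists.1 fun h => by
      have := card_le_of_le h
      rw [Nat.card_zpowers, orderOf_eq_prime (by rw [pow_two]; exact m.sq hi.1) hi1', hI4] at this
      omega
    have hj1 : j ≠ 1 := fun e => hji (e ▸ one_mem _)
    have hji' : j ≠ i := fun e => hji (e ▸ mem_zpowers i)
    have hij1 : i * j ≠ 1 := fun e => hji' ((eq_inv_of_mul_eq_one_right e).trans
      (inv_eq_of_mul_eq_one_right (m.sq hi.1)))
    set vi := m.vec i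
    set vj := m.vec j
    have hmemI : ∀ {x : G}, x ∈ m.A → (x ∈ I ↔ m.vec x ∈ [v0, vi, vj, vadd vi vj]) := by
      intro x hx
      constructor
      · intro hxI
        letI : Fintype ↥I := Fintype.ofFinite _
        have huniv : ({1, ⟨i, hi⟩, ⟨j, hj⟩, ⟨i * j, mul_mem hi hj⟩} : Finset ↥I) = Finset.univ := by
          refine Finset.eq_univ_of_card _ ?_
          rw [← Nat.card_eq_fintype_card, hI4]
          simp [Subtype.ext_iff, hi1'.symm, hj1.symm, hij1.symm, hji'.symm, hi1', hj1]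
        have hc : (⟨x, hxI⟩ : ↥I) ∈ ({1, ⟨i, hi⟩, ⟨j, hj⟩, ⟨i * j, mul_mem hi hj⟩} : Finset ↥I) :=
          huniv ▸ Finset.mem_univ _
        simp [Subtype.ext_iff] at hc
        rcases hc with rfl | rfl | rfl | rfl
        · simp [m.vec_one]
        · simp [vi]
        · simp [vj]
        · simp [vi, vj, m.vec_mul hi.1 hj.1]
      · intro h
        simp only [List.mem_cons, List.not_mem_nil, or_false] at h
        rcases h with h | h | h | h
        · exact ((m.vec_eq_v0 hx).1 h) ▸ one_mem _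
        · exact m.vec_inj hx hi.1 h ▸ hi
        · exact m.vec_inj hx hj.1 h ▸ hj
        · rw [← m.vec_mul hi.1 hj.1] at h
          exact m.vec_inj hx (mul_mem hi.1 hj.1) h ▸ mul_mem hi hj
    have hN : Nat.card ↥N = (nset (m.mid t) (m.mid s) vi vj).card := m.card_of_vec inf_le_left fun x hx => by
      simp only [nset, Finset.mem_filter, Finset.mem_univ, true_and]
      rw [← m.conj_A_eq (hU ht) hx, ← m.conj_A_eq (hU hs) hx,
        ← hmemI (mul_mem (m.conj_mem (hU ht) hx) (inv_mem hx)), ← hmemI (mul_mem (m.conj_mem (hU hs) hx) (inv_mem hx))]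
      exact ⟨fun h => ⟨m.bracket_mem_of_normalizer hU h ht, m.bracket_mem_of_normalizer hU h hs⟩,
        fun h => hnorm hx h.1 h.2⟩
    obtain ⟨hge, heq⟩ := plane _ _ hp vi (hIF i hi) vj (hIF j hj)
      (fun e => hi1' ((m.vec_eq_v0 hi.1).1 e)) (fun e => hj1 ((m.vec_eq_v0 hj.1).1 e))
      (fun e => hji' (m.vec_inj hj.1 hi.1 e.symm))
    rcases eq_or_lt_of_le hge with h | h
    · refine Or.inr ⟨by rw [hN, hU16, ← h], hI4 ▸ card_le_of_le fun w hw => ⟨?_, hw.1⟩⟩
      by_contra hwA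
      have hmid : m.mid w ∈ [m.mid t, m.mid s, umul (m.mid t) (m.mid s)] := by
        rw [← m.mid_mul (hU ht) (hU hs)]
        rcases hall w hw.1 with e | e | e | e
        · exact absurd ((m.mem_A (hU hw.1)).2 e) hwA
        all_goals simp [e]
      obtain ⟨v, hv, hvne⟩ := heq h.symm _ hmid
      obtain ⟨x, hx, rfl⟩ := m.vec_surj v
      have hxN : x ∈ N := by
        simp only [nset, Finset.mem_filter, Finset.mem_univ, true_and] at hv
        rw [← m.conj_A_eq (hU ht) hx, ← m.conj_A_eq (hU hs) hx,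
          ← hmemI (mul_mem (m.conj_mem (hU ht) hx) (inv_mem hx)), ← hmemI (mul_mem (m.conj_mem (hU hs) hx) (inv_mem hx))] at hv
        exact hnorm hx hv.1 hv.2
      exact hvne ((m.commute_iff (hU hw.1) hx).1 ((mem_centralizer_iff.1 hw.2 x hxN).symm))
    · exact Or.inl (by rw [hN, hU16]; exact h)

end Shape

end Cfsg.Agent.Spor.M24Closed
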