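import Cfsg.Agent.Lib.Spor.M24SylowQuot

/-!
# The action of the middle block on the abelian subgroup of order 64 (for S3169)

`act u v` is the conjugate of the outer vector `v` by an element with middle block `u`, `dd u v` the commutator.
All facts are checked on the finite model.
-/

set_option autoImplicit false
set_option maxRecDepth 100000
set_option synthInstance.maxSize 4000
set_option synthInstance.maxHeartbeats 400000
set_option linter.style.longLine false

namespace Cfsg.Agent.Spor.M24Closed

open Cfsg.Agent.Spor.M24Quot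

def vadd (a b : Outer) : Outer :=
  ⟨a.a12 ^^ b.a12, a.a13 ^^ b.a13, a.a14 ^^ b.a14, a.a25 ^^ b.a25, a.a35 ^^ b.a35, a.a45 ^^ b.a45⟩

def dd (u : Mid) (a : Outer) : Outer :=
  ⟨false, a.a12 && u.a23, (a.a12 && u.a24) ^^ ((a.a13 ^^ (a.a12 && u.a23)) && u.a34),
    (u.a23 && a.a35) ^^ (u.a24 && a.a45), u.a34 && a.a45, false⟩

def act (u : Mid) (a : Outer) : Outer := vadd a (dd u a)

theorem mulAct : ∀ (x : T9) (v : Outer), mul x ⟨u0, v⟩ = mul ⟨u0, act x.u v⟩ x := by decide +kernel

theorem vmul : ∀ a b : Outer, mul ⟨u0, a⟩ ⟨u0, b⟩ = ⟨u0, vadd a b⟩ := by decide +kernel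

theorem vadd_self : ∀ a : Outer, vadd a a = v0 := by decide +kernel

theorem vadd_act : ∀ (u : Mid) (a : Outer), vadd (act u a) a = dd u a := by decide +kernel

def xx : Mid := ⟨true, false, false⟩
def yy : Mid := ⟨false, true, false⟩
def zz : Mid := ⟨false, false, true⟩

/-- An involution of the middle block. -/
def isInv (u : Mid) : Bool := umul u u == u0 && u != u0

/-- A pair generating a four-group of the middle block. -/
def isPair (f g : Mid) : Bool := isInv f && isInv g && f != g && umul f g == umul g f

def fix1 (f : Mid) : Finset Outer := Finset.univ.filter fun a => dd f a = v0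

def fix2 (f g : Mid) : Finset Outer := (fix1 f).filter fun a => dd g a = v0

def im1 (f : Mid) : Finset Outer := Finset.univ.image (dd f)

theorem fix1_card : ∀ f : Mid, isInv f = true → (fix1 f).card = 16 := by decide +kernel

theorem fix2_card : ∀ f g : Mid, isPair f g = true → (fix2 f g).card = 8 := by decide +kernel

theorem mid_card : ∀ f g : Mid, isPair f g = true → ∀ h : Mid, isInv h = true →
    umul h f = umul f h → umul h g = umul g h → h = f ∨ h = g ∨ h = umul f g := by decide +kernel

theorem pair_third : ∀ f g : Mid, isPair f g = true →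
    isPair f (umul f g) = true ∧ isPair g (umul f g) = true ∧ umul f (umul f g) = g ∧ isInv (umul f g) = true := by
  decide +kernel

theorem dd_le_fix2 : ∀ f g : Mid, isPair f g = true → ∀ a : Outer, dd f a ∈ fix2 f g := by decide +kernel

/-- The elements normalising a plane extended by a four-group. -/
def nset (f g : Mid) (i j : Outer) : Finset Outer :=
  Finset.univ.filter fun a => dd f a ∈ [v0, i, j, vadd i j] ∧ dd g a ∈ [v0, i, j, vadd i j]

/-- A plane of the fixed space has a normaliser of order at least 16, and of order exactly 16 only if it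
centralises no involution of the four-group. -/
theorem plane : ∀ f g : Mid, isPair f g = true → ∀ i ∈ fix2 f g, ∀ j ∈ fix2 f g, i ≠ v0 → j ≠ v0 → i ≠ j →
    16 ≤ (nset f g i j).card ∧
      ((nset f g i j).card = 16 → ∀ h ∈ [f, g, umul f g], ∃ a ∈ nset f g i j, dd h a ≠ v0) := by decide +kernel

theorem normal_pair : ∀ r : Mid, isInv r = true → r ≠ yy →
    isPair yy r = true ∧ (umul r (umul xx (umul r xx)) = yy ∨ umul r (umul zz (umul r zz)) = yy) := by
  decide +kernel

/-- The fixed space of a four-group is spanned by commutators. -/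
theorem fix2_le_im : ∀ f g : Mid, isPair f g = true → ∀ v ∈ fix2 f g,
    ∃ a ∈ im1 f, ∃ b ∈ im1 g, vadd a b = v := by decide +kernel

/-- Different involutions of a four-group have different commutator images. -/
theorem im_ne : ∀ f g : Mid, isPair f g = true → ∃ a, dd f a ∉ im1 g := by decide +kernel

/-- The stability conditions in the two four-groups. -/
theorem chain : ∀ f g : Mid, isPair f g = true → ∀ a : Outer,
    dd g a ∈ fix1 f ∧ (a ∈ fix1 f → dd g a ∈ im1 f) ∧ (a ∈ im1 f → dd g a = v0) := by decide +kernel

def ee14 : Outer := ⟨false, false, true, false, false, false⟩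
def ee25 : Outer := ⟨false, false, false, true, false, false⟩

def soc : Finset Outer := {v0, ee14, ee25, vadd ee14 ee25}

theorem soc_iff : ∀ a : Outer, (dd xx a = v0 ∧ dd yy a = v0 ∧ dd zz a = v0) ↔ a ∈ soc := by decide +kernel

theorem soc_gen : (∀ a ∈ fix2 xx yy, dd zz a = v0 ∨ dd zz a = ee14) ∧ (∃ a ∈ fix2 xx yy, dd zz a = ee14) ∧
    (∀ a ∈ fix2 zz yy, dd xx a = v0 ∨ dd xx a = ee25) ∧ (∃ a ∈ fix2 zz yy, dd xx a = ee25) := by decide +kernel

/-- The second term of the socle series. -/
def soc2 : Finset Outer := Finset.univ.filter fun a => dd xx a ∈ soc ∧ dd yy a ∈ soc ∧ dd zz a ∈ soc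

theorem soc2_spec : ∀ a : Outer, dd xx a ∈ soc2 ∧ dd yy a ∈ soc2 ∧ dd zz a ∈ soc2 := by decide +kernel

theorem pairs : isPair xx yy = true ∧ isPair zz yy = true := by decide +kernel

end Cfsg.Agent.Spor.M24Closed
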