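import Cfsg.Agent.Lib.Spor.M24Closed.Normal
import Cfsg.Agent.S3171

/-!
# Groups with Sylow 2-subgroup that of M24 modulo its centre (S3169, S3170)
-/

set_option autoImplicit false
set_option linter.style.haveILetI false

namespace Cfsg.Agent.Spor.M24Closed

open Subgroup Cfsg.Agent.Spor.M24Quot

universe u

variable {G : Type u} [Group G] [Finite G]

/-- A unique abelian subgroup of order 64 in such a Sylow subgroup is normal when the odd core is trivial. -/
theorem normal_of_iso (hO : Cfsg.oddCore G = ⊥) (S : Sylow 2 G) (P : Sylow 2 ↥Cfsg.M24)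
    (e : ↥(S : Subgroup G) ≃* (↥(P : Subgroup ↥Cfsg.M24) ⧸ Subgroup.center ↥(P : Subgroup ↥Cfsg.M24)))
    (A : Subgroup G) (hA : A ≤ (S : Subgroup G))
    (huniq : ∀ B : Subgroup G, B ≤ (S : Subgroup G) → IsMulCommutative ↥B → Nat.card ↥B = 64 → B = A) :
    A.Normal := by
  classical
  obtain ⟨φ, hφ⟩ := S3171.coords P
  obtain ⟨ψ₀, hψ₀⟩ := quot_coord φ hφ
  let ψ : ↥(S : Subgroup G) ≃ T9 := e.toEquiv.trans ψ₀
  have hψ : ∀ x y, ψ (x * y) = mul (ψ x) (ψ y) := fun x y => by
    show ψ₀ (e (x * y)) = mul (ψ₀ (e x)) (ψ₀ (e y))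
    rw [map_mul, hψ₀]
  have h1 := psi_one ψ hψ
  have hu : ∀ {x y : ↥(S : Subgroup G)}, (ψ x).u = u0 → (ψ y).u = u0 →
      ψ (x * y) = ⟨u0, vadd (ψ x).v (ψ y).v⟩ := fun {x y} hx hy => by
    have he : ∀ s : T9, s.u = u0 → s = ⟨u0, s.v⟩ := fun s h => by cases s; subst h; rfl
    rw [hψ, ← vmul, ← he _ hx, ← he _ hy]
  let B₀ : Subgroup ↥(S : Subgroup G) :=
    { carrier := {x | (ψ x).u = u0}
      one_mem' := by show (ψ 1).u = u0; rw [h1]; rfl
      mul_mem' := fun {x y} hx hy => by show (ψ (x * y)).u = u0; rw [hu hx hy]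
      inv_mem' := fun {x} hx => by
        have h := congrArg T9.u (hψ x x⁻¹)
        rw [mul_inv_cancel, h1] at h
        have hx' : (ψ x).u = u0 := hx
        have hcancel : ∀ c : Mid, umul u0 c = c := by decide +kernel
        show (ψ x⁻¹).u = u0
        rw [show (mul (ψ x) (ψ x⁻¹)).u = umul (ψ x).u (ψ x⁻¹).u from rfl, hx', hcancel] at h
        exact h.symm }
  have hcomm : IsMulCommutative ↥(B₀.map (S : Subgroup G).subtype) := by
    refine ⟨⟨?_⟩⟩
    rintro ⟨_, x, hx, rfl⟩ ⟨_, y, hy, rfl⟩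
    refine Subtype.ext ?_
    show ((x * y : ↥(S : Subgroup G)) : G) = ((y * x : ↥(S : Subgroup G)) : G)
    refine congrArg Subtype.val (ψ.injective ?_)
    rw [hu hx hy, hu hy hx]
    have hvc : ∀ a b : Outer, vadd a b = vadd b a := by decide +kernel
    rw [hvc]
  have hcard : Nat.card ↥(B₀.map (S : Subgroup G).subtype) = 64 := by
    rw [card_map_of_injective (S : Subgroup G).subtype_injective]
    let ev : ↥B₀ ≃ Outer :=
      { toFun := fun x => (ψ x).v
        invFun := fun v => ⟨ψ.symm ⟨u0, v⟩, by show (ψ (ψ.symm ⟨u0, v⟩)).u = u0; rw [Equiv.apply_symm_apply]⟩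
        left_inv := fun x => Subtype.ext (ψ.injective (by
          show ψ (ψ.symm ⟨u0, (ψ x).v⟩) = ψ x
          rw [Equiv.apply_symm_apply, ← (x.2 : (ψ (x : ↥(S : Subgroup G))).u = u0)]))
        right_inv := fun v => by show (ψ (ψ.symm ⟨u0, v⟩)).v = v; rw [Equiv.apply_symm_apply] }
    rw [Nat.card_congr ev, Nat.card_eq_fintype_card]
    decide +kernel
  have hBA : B₀.map (S : Subgroup G).subtype = A := huniq _ (map_subtype_le _) hcomm hcard
  let m : Shape G :=
    { S := S, A := A, ψ := ψ, hψ := hψ, le := hA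
      mem_iff := fun x => by
        rw [← hBA]
        exact ⟨fun ⟨y, hy, h⟩ => (Subtype.ext h : y = x) ▸ hy, fun h => ⟨x, h, rfl⟩⟩
      uniq := huniq }
  exact m.normal hO

/-- The odd core of a quotient by a central 2-subgroup. -/
theorem oddCore_quotient (hO : Cfsg.oddCore G = ⊥) (Z : Subgroup G) [Z.Normal] (hZ : Z ≤ center G)
    (h2 : IsPGroup 2 ↥Z) : Cfsg.oddCore (G ⧸ Z) = ⊥ := by
  haveI : Fact (Nat.Prime 2) := ⟨Nat.prime_two⟩
  refine le_bot_iff.1 (sSup_le ?_)
  rintro N ⟨hN, hNc⟩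
  set M := N.comap (QuotientGroup.mk' Z)
  have hZM : Z ≤ M := fun z hz => by
    show QuotientGroup.mk' Z z ∈ N
    rw [QuotientGroup.mk'_apply, (QuotientGroup.eq_one_iff z).2 hz]
    exact one_mem _
  haveI : (Z.subgroupOf M).Normal := inferInstance
  obtain ⟨k, hk⟩ := IsPGroup.iff_card.1 h2
  have hidx : (Z.subgroupOf M).index = Nat.card ↥N := by
    have h1 := (Z.subgroupOf M).card_mul_index
    have h3 : Nat.card ↥M = Nat.card ↥Z * Nat.card ↥N := by
      have hM : M.index = N.index := index_comap_of_surjective N (QuotientGroup.mk'_surjective Z)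
      have a := M.card_mul_index
      have b : Nat.card ↥N * N.index = Z.index := N.card_mul_index.trans Z.index_eq_card.symm
      rw [hM, ← Z.card_mul_index, ← b, ← mul_assoc] at a
      exact Nat.eq_of_mul_eq_mul_right (Nat.pos_of_ne_zero index_ne_zero_of_finite) a
    rw [Nat.card_congr (subgroupOfEquivOfLe hZM).toEquiv, h3] at h1
    exact Nat.eq_of_mul_eq_mul_left Nat.card_pos h1
  have hcop : (Nat.card ↥(Z.subgroupOf M)).Coprime (Z.subgroupOf M).index := by
    rw [hidx, Nat.card_congr (subgroupOfEquivOfLe hZM).toEquiv, hk]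
    exact Nat.Coprime.pow_left k hNc.symm
  obtain ⟨C, hC⟩ := exists_right_complement'_of_coprime hcop
  have hcC : Nat.card ↥C = Nat.card ↥N := by rw [← hC.symm.index_eq_card, hidx]
  -- elements of odd order of `M` lie in `C`
  have hodd : ∀ w : ↥M, Odd (orderOf w) → w ∈ C := by
    intro w hw
    obtain ⟨⟨⟨z, hz⟩, t, ht⟩, rfl⟩ := hC.2 w
    have hc : Commute z t := (Subtype.ext (mem_center_iff.1 (hZ (mem_subgroupOf.1 hz)) t) : t * z = z * t).symm
    set n := orderOf ((z : ↥M) * t)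
    have h1 : z ^ n * t ^ n = 1 := by rw [← hc.mul_pow]; exact pow_orderOf_eq_one _
    have h2' : z ^ n ∈ C := by rw [eq_inv_of_mul_eq_one_left h1]; exact inv_mem (pow_mem ht _)
    have h3 : z ^ n = 1 := mem_bot.1 (hC.disjoint.le_bot ⟨pow_mem hz _, h2'⟩)
    have h4 : orderOf z ∣ n := orderOf_dvd_of_pow_eq_one h3
    obtain ⟨j, hj⟩ := IsPGroup.iff_orderOf.1 (show IsPGroup 2 ↥(Z.subgroupOf M) from h2.comap_of_injective _ M.subtype_injective) ⟨z, hz⟩
    rw [Subgroup.orderOf_mk] at hj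
    have h5 : orderOf z = 1 := by
      rw [hj] at h4 ⊢
      rcases j with _ | j
      · rfl
      · exact absurd ((dvd_pow_self 2 (Nat.succ_ne_zero j)).trans h4) (fun h => Nat.not_even_iff_odd.2 hw (even_iff_two_dvd.2 h))
    show z * t ∈ C
    rw [orderOf_eq_one_iff.1 h5, one_mul]
    exact ht
  have hCn : (C.map M.subtype).Normal := ⟨by
    rintro _ ⟨c, hc, rfl⟩ g
    have hMn : M.Normal := hN.comap _
    refine ⟨⟨g * c * g⁻¹, hMn.conj_mem c c.2 g⟩, hodd _ ?_, rfl⟩
    rw [← Subgroup.orderOf_coe]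
    show Odd (orderOf (g * c * g⁻¹))
    rw [show orderOf (g * c * g⁻¹) = orderOf (c : G) from (MulAut.conj g).orderOf_eq (c : G), Subgroup.orderOf_coe]
    refine (Nat.not_even_iff_odd.1 fun he => ?_ : Odd (Nat.card ↥C)).of_dvd_nat
      (orderOf_mk c hc ▸ orderOf_dvd_natCard _)
    rw [hcC, even_iff_two_dvd] at he
    exact (Nat.Prime.coprime_iff_not_dvd Nat.prime_two).1 hNc.symm he⟩
  have hCc : (Nat.card ↥(C.map M.subtype)).Coprime 2 := by
    rw [card_map_of_injective M.subtype_injective, hcC]; exact hNc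
  have hbot : C.map M.subtype = ⊥ := le_bot_iff.1 (hO ▸ le_sSup ⟨hCn, hCc⟩)
  have h1 : Nat.card ↥N = 1 := by
    rw [← hcC, ← card_map_of_injective M.subtype_injective, hbot, Subgroup.card_bot]
  exact (Subgroup.card_eq_one.1 h1).le

end Cfsg.Agent.Spor.M24Closed
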