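import Cfsg.Agent.Lib.Spor.M24Closed.Facts
import Cfsg.Agent.Lib.Spor.M24SylowQuot
import Cfsg.Prelude.Def_Transfer
import Cfsg.Prelude.Def_TwoFusion

/-!
# A group with Sylow 2-subgroup the quotient of the one of M24 by its centre: the model inside the group (for S3169)

`mid x` is the middle block of an element of `S`, `vec a` the outer vector of an element of `A`.
-/

set_option autoImplicit false
set_option linter.unusedSectionVars false

namespace Cfsg.Agent.Spor.M24Closed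

open Subgroup Cfsg.Agent.Spor.M24Quot

universe u

/-- The data: coordinates on `S` in which the abelian subgroup `A` of order 64 is the outer part. -/
structure Shape (G : Type u) [Group G] [Finite G] where
  S : Sylow 2 G
  A : Subgroup G
  ψ : ↥(S : Subgroup G) ≃ T9
  hψ : ∀ x y, ψ (x * y) = mul (ψ x) (ψ y)
  le : A ≤ (S : Subgroup G)
  mem_iff : ∀ x : ↥(S : Subgroup G), (x : G) ∈ A ↔ (ψ x).u = u0
  uniq : ∀ B : Subgroup G, B ≤ (S : Subgroup G) → IsMulCommutative ↥B → Nat.card ↥B = 64 → B = A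

variable {G : Type u} [Group G] [Finite G] (m : Shape G)

namespace Shape

theorem psi_one : m.ψ 1 = o := idem _ (by rw [← m.hψ, one_mul])

open Classical in
/-- The middle block of an element of `S` (trivial outside `S`). -/
noncomputable def mid (x : G) : Mid := if h : x ∈ (m.S : Subgroup G) then (m.ψ ⟨x, h⟩).u else u0

open Classical in
/-- The outer vector of an element of `S` (trivial outside `S`). -/
noncomputable def vec (x : G) : Outer := if h : x ∈ (m.S : Subgroup G) then (m.ψ ⟨x, h⟩).v else v0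

theorem psi_eq {x : G} (h : x ∈ (m.S : Subgroup G)) : m.ψ ⟨x, h⟩ = ⟨m.mid x, m.vec x⟩ := by
  simp [mid, vec, h]

theorem mid_one : m.mid 1 = u0 := by
  have := m.psi_eq (one_mem _)
  rw [show (⟨1, one_mem _⟩ : ↥(m.S : Subgroup G)) = 1 from rfl, m.psi_one] at this
  exact (congrArg T9.u this).symm

theorem mid_mul {x y : G} (hx : x ∈ (m.S : Subgroup G)) (hy : y ∈ (m.S : Subgroup G)) :
    m.mid (x * y) = umul (m.mid x) (m.mid y) := by
  have := congrArg T9.u (m.hψ ⟨x, hx⟩ ⟨y, hy⟩)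
  rw [m.psi_eq hx, m.psi_eq hy] at this
  have e : (m.ψ ⟨x * y, mul_mem hx hy⟩).u = m.mid (x * y) := by rw [m.psi_eq (mul_mem hx hy)]
  exact e.symm.trans this

theorem mem_A {x : G} (hx : x ∈ (m.S : Subgroup G)) : x ∈ m.A ↔ m.mid x = u0 := by
  have e : (m.ψ ⟨x, hx⟩).u = m.mid x := by rw [m.psi_eq hx]
  rw [← e]
  exact m.mem_iff ⟨x, hx⟩

theorem psi_A {a : G} (ha : a ∈ m.A) : m.ψ ⟨a, m.le ha⟩ = ⟨u0, m.vec a⟩ := by
  rw [m.psi_eq, (m.mem_A (m.le ha)).1 ha]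

theorem vec_inj {a b : G} (ha : a ∈ m.A) (hb : b ∈ m.A) (h : m.vec a = m.vec b) : a = b :=
  congrArg Subtype.val (m.ψ.injective (show m.ψ ⟨a, m.le ha⟩ = m.ψ ⟨b, m.le hb⟩ by rw [m.psi_A ha, m.psi_A hb, h]))

theorem vec_surj (v : Outer) : ∃ a ∈ m.A, m.vec a = v := by
  have hm : ((m.ψ.symm ⟨u0, v⟩ : ↥(m.S : Subgroup G)) : G) ∈ m.A := (m.mem_iff _).2 (by rw [Equiv.apply_symm_apply])
  refine ⟨_, hm, ?_⟩
  have := congrArg T9.v (m.psi_A hm)
  rwa [Subtype.coe_eta, Equiv.apply_symm_apply, eq_comm] at this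

theorem mid_surj (u : Mid) : ∃ x ∈ (m.S : Subgroup G), m.mid x = u := by
  refine ⟨_, (m.ψ.symm ⟨u, v0⟩).2, ?_⟩
  have := congrArg T9.u (m.psi_eq (m.ψ.symm ⟨u, v0⟩).2)
  rwa [Subtype.coe_eta, Equiv.apply_symm_apply, eq_comm] at this

theorem vec_one : m.vec 1 = v0 := by
  have := m.psi_eq (one_mem _)
  rw [show (⟨1, one_mem _⟩ : ↥(m.S : Subgroup G)) = 1 from rfl, m.psi_one] at this
  exact (congrArg T9.v this).symm

theorem vec_eq_v0 {a : G} (ha : a ∈ m.A) : m.vec a = v0 ↔ a = 1 :=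
  ⟨fun h => m.vec_inj ha (one_mem _) (h.trans m.vec_one.symm), fun h => h ▸ m.vec_one⟩

theorem vec_mul {a b : G} (ha : a ∈ m.A) (hb : b ∈ m.A) : m.vec (a * b) = vadd (m.vec a) (m.vec b) := by
  have h := m.hψ ⟨a, m.le ha⟩ ⟨b, m.le hb⟩
  rw [m.psi_A ha, m.psi_A hb, vmul,
    show (⟨a, m.le ha⟩ : ↥(m.S : Subgroup G)) * ⟨b, m.le hb⟩ = ⟨a * b, m.le (mul_mem ha hb)⟩ from rfl,
    m.psi_A (mul_mem ha hb)] at h
  exact congrArg T9.v h

theorem sq {a : G} (ha : a ∈ m.A) : a * a = 1 :=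
  (m.vec_eq_v0 (mul_mem ha ha)).1 (by rw [m.vec_mul ha ha, vadd_self])

theorem comm {a b : G} (ha : a ∈ m.A) (hb : b ∈ m.A) : a * b = b * a := by
  have h := m.sq (mul_mem ha hb)
  calc a * b = a * (a * b * (a * b)) * b := by rw [h, mul_one]
    _ = (a * a) * (b * a) * (b * b) := by group
    _ = b * a := by rw [m.sq ha, m.sq hb, one_mul, mul_one]

theorem elem : Cfsg.IsElementaryAbelian 2 m.A :=
  ⟨⟨⟨fun a b => Subtype.ext (m.comm a.2 b.2)⟩⟩, fun a ha => by rw [pow_two]; exact m.sq ha⟩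

theorem card_A : Nat.card ↥m.A = 64 := by
  have e : ↥m.A ≃ Outer := Equiv.ofBijective (fun a => m.vec a)
    ⟨fun a b h => Subtype.ext (m.vec_inj a.2 b.2 h), fun v => by
      obtain ⟨a, ha, h⟩ := m.vec_surj v
      exact ⟨⟨a, ha⟩, h⟩⟩
  rw [Nat.card_congr e, Nat.card_eq_fintype_card]
  decide +kernel

theorem conj_mem {x a : G} (hx : x ∈ (m.S : Subgroup G)) (ha : a ∈ m.A) : x * a * x⁻¹ ∈ m.A := by
  have hm : x * a * x⁻¹ ∈ (m.S : Subgroup G) := mul_mem (mul_mem hx (m.le ha)) (inv_mem hx)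
  rw [m.mem_A hm, m.mid_mul (mul_mem hx (m.le ha)) (inv_mem hx), m.mid_mul hx (m.le ha),
    (m.mem_A (m.le ha)).1 ha]
  have h1 := m.mid_mul hx (inv_mem hx)
  rw [mul_inv_cancel, m.mid_one] at h1
  rw [show umul (m.mid x) u0 = m.mid x by generalize m.mid x = u; revert u; decide, ← h1]

/-- Conjugation in coordinates. -/
theorem vec_conj {x a : G} (hx : x ∈ (m.S : Subgroup G)) (ha : a ∈ m.A) :
    m.vec (x * a * x⁻¹) = act (m.mid x) (m.vec a) := by
  obtain ⟨b, hb, hbv⟩ := m.vec_surj (act (m.mid x) (m.vec a))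
  have h : (⟨x, hx⟩ : ↥(m.S : Subgroup G)) * ⟨a, m.le ha⟩ = ⟨b, m.le hb⟩ * ⟨x, hx⟩ := m.ψ.injective (by
    rw [m.hψ, m.hψ, m.psi_A ha, m.psi_A hb, hbv, mulAct, m.psi_eq hx])
  have h' : x * a = b * x := congrArg Subtype.val h
  rw [h', mul_inv_cancel_right, hbv]

theorem conj_A_eq {x : G} (hx : x ∈ (m.S : Subgroup G)) {a : G} (ha : a ∈ m.A) :
    m.vec (x * a * x⁻¹ * a⁻¹) = dd (m.mid x) (m.vec a) := by
  rw [inv_eq_of_mul_eq_one_right (m.sq ha), m.vec_mul (m.conj_mem hx ha) ha, m.vec_conj hx ha, vadd_act]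

/-- An element centralises `a` iff the commutator vanishes. -/
theorem commute_iff {x a : G} (hx : x ∈ (m.S : Subgroup G)) (ha : a ∈ m.A) :
    x * a = a * x ↔ dd (m.mid x) (m.vec a) = v0 := by
  rw [← m.conj_A_eq hx ha, m.vec_eq_v0 (mul_mem (m.conj_mem hx ha) (inv_mem ha)), mul_inv_eq_one,
    mul_inv_eq_iff_eq_mul]

theorem sylow_le_normalizer : (m.S : Subgroup G) ≤ normalizer (m.A : Set G) := fun _ hx =>
  mem_normalizer_fintype fun _ ha => m.conj_mem hx ha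

/-- Counting in coordinates. -/
theorem card_of_vec {B : Subgroup G} (hB : B ≤ m.A) {F : Finset Outer}
    (h : ∀ a ∈ m.A, a ∈ B ↔ m.vec a ∈ F) : Nat.card ↥B = F.card := by
  refine Nat.card_eq_of_equiv_fin ((Equiv.ofBijective (fun b : ↥B => (⟨m.vec b, (h b (hB b.2)).1 b.2⟩ : ↥F))
    ⟨fun a b e => Subtype.ext (m.vec_inj (hB a.2) (hB b.2) (congrArg Subtype.val e)), fun v => ?_⟩).trans F.equivFin)
  obtain ⟨a, ha, hav⟩ := m.vec_surj v.1
  exact ⟨⟨a, (h a ha).2 (hav ▸ v.2)⟩, Subtype.ext hav⟩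

end Shape

end Cfsg.Agent.Spor.M24Closed
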