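import Cfsg.Agent.Lib.Spor.M24Closed.Closed
import Cfsg.Agent.Lib.Spor.M24Closed.Autom
import Cfsg.Agent.Lib.Fus.Goldschmidt.Main

/-!
# The abelian subgroup of order 64 is normal (for S3169)

`A` is strongly closed, so by Goldschmidt's theorem it is normal unless some component is moved; the elements of
the layer normalising `A` then act on `A` as a 2-group, against the transitive group in a component.
-/

set_option autoImplicit false
set_option linter.unusedSectionVars false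
set_option linter.style.haveILetI false

namespace Cfsg.Agent.Spor.M24Closed

open Subgroup Cfsg.Agent.Spor.M24Quot

universe u

variable {G : Type u} [Group G] [Finite G] (m : Shape G)

namespace Shape

theorem closed_in {T : Subgroup G} (hT : IsPGroup 2 T) (hAT : m.A ≤ T) {x : G} (hx : x ∈ m.A) {g : G}
    (hg : g * x * g⁻¹ ∈ T) : g * x * g⁻¹ ∈ m.A := by
  haveI : Fact (Nat.Prime 2) := ⟨Nat.prime_two⟩
  obtain ⟨P, hP⟩ := hT.exists_le_sylow
  obtain ⟨h, hh⟩ := MulAction.exists_smul_eq G P m.S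
  have hmem : ∀ t ∈ T, h * t * h⁻¹ ∈ (m.S : Subgroup G) := fun t ht => by
    rw [← hh, Sylow.coe_subgroup_smul, ← Grp.map_conj_eq_smul]
    exact ⟨t, hP ht, rfl⟩
  have hN : h ∈ normalizer (m.A : Set G) := m.cA_inv (m.cA_eq (by
    rintro _ ⟨a, ha, rfl⟩
    exact hmem a (hAT ha)))
  have h1 : h * g * x * (h * g)⁻¹ ∈ m.A := m.stronglyClosed.2 x hx (h * g) (by
    rw [show h * g * x * (h * g)⁻¹ = h * (g * x * g⁻¹) * h⁻¹ by group]; exact hmem _ hg)
  refine (mem_normalizer_iff.1 hN _).2 ?_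
  rwa [show h * (g * x * g⁻¹) * h⁻¹ = h * g * x * (h * g)⁻¹ by group]

theorem localHyp (hO : Cfsg.oddCore G = ⊥) : Fus.Gold.LocalHyp G m.A where
  core := hO
  elem := m.elem
  closed T hT hAT x hx g hg := m.closed_in hT hAT hx hg
  comp K hK := by
    haveI := hK.2.2
    exact Fus.Gold.conclusion_all _ hK.2.2 (Fus.Gold.not_comm_quotient hK)

/-- An element of the layer in `S` acts on a component as an element of the component in `S`. -/
theorem exists_component_part (hloc : Fus.Gold.LocalHyp G m.A) {J : Subgroup G} (hJ : Cfsg.IsComponent J) {r : G}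
    (hr : r ∈ (m.S : Subgroup G) ⊓ Cfsg.layer G) :
    ∃ t ∈ (m.S : Subgroup G) ⊓ J, ∃ c ∈ centralizer (J : Set G), t * c = r := by
  haveI : Fact (Nat.Prime 2) := ⟨Nat.prime_two⟩
  -- the layer is `J` times its centraliser
  have hsplit : ∀ x ∈ Cfsg.layer G, ∃ k ∈ J, ∃ c ∈ centralizer (J : Set G), k * c = x := by
    intro x hx
    have hle : Cfsg.layer G ≤ J ⊔ centralizer (J : Set G) := sSup_le fun J' hJ' => by
      rcases eq_or_ne J' J with rfl | hne
      · exact le_sup_left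
      · exact (Grp.IsComponent.commute hJ' hJ hne).trans le_sup_right
    have hx' : x ∈ ((J ⊔ centralizer (J : Set G) : Subgroup G) : Set G) := hle hx
    rw [coe_mul_of_right_le_normalizer_left _ _ (centralizer_le_normalizer _)] at hx'
    exact hx'
  set NJ := normalizer (J : Set G)
  set C := (centralizer (J : Set G)).subgroupOf NJ
  haveI hCn : C.Normal := ⟨fun c hc n => mem_subgroupOf.2 (Fus.Gold.conj_mem_centralizer n.2 (mem_subgroupOf.1 hc))⟩
  let π := QuotientGroup.mk' C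
  have hJN : J ≤ NJ := le_normalizer
  set R := (m.S : Subgroup G) ⊓ Cfsg.layer G
  set TJ := (m.S : Subgroup G) ⊓ J
  have hRN : R ≤ NJ := fun y hy => by
    obtain ⟨k, hk, c, hc, rfl⟩ := hsplit y hy.2
    exact mul_mem (hJN hk) (centralizer_le_normalizer _ hc)
  set Rb := (R.subgroupOf NJ).map π
  set Tb := (TJ.subgroupOf NJ).map π
  set Jb := (J.subgroupOf NJ).map π
  have hTR : Tb ≤ Rb := map_mono fun y hy =>
    mem_subgroupOf.2 ⟨(mem_subgroupOf.1 hy).1, (show J ≤ Cfsg.layer G from le_sSup hJ) (mem_subgroupOf.1 hy).2⟩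
  have hRJ : Rb ≤ Jb := by
    rintro _ ⟨⟨y, hyN⟩, hy, rfl⟩
    obtain ⟨k, hk, c, hc, rfl⟩ := hsplit y (mem_subgroupOf.1 hy).2
    refine ⟨⟨k, hJN hk⟩, mem_subgroupOf.2 hk, QuotientGroup.eq.2 (mem_subgroupOf.2 ?_)⟩
    show k⁻¹ * (k * c) ∈ _
    rwa [inv_mul_cancel_left]
  have hodd : ¬ 2 ∣ Tb.relIndex Jb := fun h => Grp.not_dvd_relIndex_sylow m.S hJ.1 (by
    have h1 : Tb.relIndex Jb ∣ (TJ.subgroupOf NJ).relIndex (J.subgroupOf NJ) := by
      rw [← relIndex_comap]
      exact relIndex_dvd_of_le_left _ (le_comap_map π _)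
    rw [relIndex_subgroupOf hJN, inf_relIndex_right] at h1
    exact h.trans h1)
  obtain ⟨j, hj⟩ := IsPGroup.iff_card.1 ((show IsPGroup 2 ↥(R.subgroupOf NJ) from
    (m.S.isPGroup'.to_le inf_le_left).comap_of_injective _ NJ.subtype_injective).map π)
  obtain ⟨i, -, hi⟩ := (Nat.dvd_prime_pow Nat.prime_two).1 (hj ▸ relIndex_dvd_card Tb Rb)
  have hone : Tb.relIndex Rb = 1 := by
    rw [hi]
    rcases i with _ | i
    · rfl
    · exact absurd ((hi ▸ dvd_pow_self 2 (Nat.succ_ne_zero i) : 2 ∣ Tb.relIndex Rb).trans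
        (Dvd.intro _ (relIndex_mul_relIndex _ _ _ hTR hRJ))) hodd
  obtain ⟨⟨t, htN⟩, ht, hte⟩ := relIndex_eq_one.1 hone ⟨⟨r, hRN hr⟩, mem_subgroupOf.2 hr, rfl⟩
  refine ⟨t, mem_subgroupOf.1 ht, t⁻¹ * r, ?_, mul_inv_cancel_left t r⟩
  exact mem_subgroupOf.1 (QuotientGroup.eq.1 hte)

/-- A group of automorphisms in which the elements acting trivially modulo a fixed part are those of the
2-group `R`: every element of odd order is trivial. -/
theorem odd_eq_one {R : Subgroup G} (hR : R ≤ (m.S : Subgroup G))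
    (hRn : ∀ x ∈ (m.S : Subgroup G), ∀ r ∈ R, x * r * x⁻¹ ∈ R) (Z0 : Subgroup G)
    {Y : Subgroup (MulAut ↥m.A)} (hRY : ∀ r (hr : r ∈ R), m.th r (hR hr) ∈ Y)
    (hnY : ∀ x (hx : x ∈ (m.S : Subgroup G)), ∀ v ∈ Y, m.th x hx * v * (m.th x hx)⁻¹ ∈ Y)
    (hfix : ∀ v ∈ Y, ∀ a : ↥m.A, (a : G) ∈ Z0 → v a = a)
    (hRZ : ∀ r (hr : r ∈ R), ∀ a : ↥m.A, ((m.th r (hR hr) a * a : ↥m.A) : G) ∈ Z0)
    (hSt : ∀ v ∈ Y, (∀ a : ↥m.A, ((v a * a : ↥m.A) : G) ∈ Z0) → ∃ r, ∃ hr : r ∈ R, v = m.th r (hR hr))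
    (hidx : ∀ T : Subgroup (MulAut ↥m.A), (∀ r (hr : r ∈ R), m.th r (hR hr) ∈ T) → Odd (T.relIndex Y))
    {v : MulAut ↥m.A} (hv : v ∈ Y) (hodd : Odd (orderOf v)) : v = 1 := by
  classical
  haveI : Fact (Nat.Prime 2) := ⟨Nat.prime_two⟩
  have hstab : ∀ w ∈ Y, ∀ r (hr : r ∈ R), ∃ p, ∃ hp : p ∈ R, w * m.th r (hR hr) * w⁻¹ = m.th p (hR hp) := by
    intro w hw r hr
    refine hSt _ (mul_mem (mul_mem hw (hRY r hr)) (inv_mem hw)) fun a => ?_
    have e : (w * m.th r (hR hr) * w⁻¹) a * a = w (m.th r (hR hr) (w⁻¹ a) * w⁻¹ a) := by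
      simp [MulAut.mul_apply, map_mul]
    rw [e, hfix w hw _ (hRZ r hr _)]
    exact hRZ r hr _
  have hinvR : ∀ r (hr : r ∈ R), m.th r (hR hr) * m.th r (hR hr) = 1 := fun r hr => MulEquiv.ext fun a => by
    have h1 : m.th r (hR hr) (m.th r (hR hr) a * a) = m.th r (hR hr) a * a :=
      hfix _ (hRY r hr) _ (hRZ r hr a)
    rw [map_mul] at h1
    show m.th r (hR hr) (m.th r (hR hr) a) = a
    calc m.th r (hR hr) (m.th r (hR hr) a) =
          m.th r (hR hr) (m.th r (hR hr) a) * m.th r (hR hr) a * m.th r (hR hr) a := by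
            rw [mul_assoc, m.sqA, mul_one]
      _ = m.th r (hR hr) a * a * m.th r (hR hr) a := by rw [h1]
      _ = a := by rw [m.commA (m.th r (hR hr) a) a, mul_assoc, m.sqA, mul_one]
  have humul : ∀ r (hr : r ∈ R), umul (m.mid r) (m.mid r) = u0 := fun r hr => by
    rw [← m.mid_mul (hR hr) (hR hr), ← m.th_eq_one_iff (mul_mem (hR hr) (hR hr)), m.th_mul (hR hr) (hR hr)]
    exact hinvR r hr
  by_cases hbig : ∃ r ∈ R, m.mid r ≠ u0 ∧ m.mid r ≠ yy
  · -- the image of `R` contains a four-group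
    obtain ⟨r, hr, hr0, hry⟩ := hbig
    have hri : isInv (m.mid r) = true := by simp [isInv, humul r hr, hr0]
    obtain ⟨hp, hcase⟩ := normal_pair _ hri hry
    obtain ⟨q, hq, hqm⟩ : ∃ q ∈ R, m.mid q = yy := by
      have key : ∀ (c : Mid), umul c c = u0 → umul (m.mid r) (umul c (umul (m.mid r) c)) = yy →
          ∃ q ∈ R, m.mid q = yy := by
        intro c hc e
        obtain ⟨x, hx, hxm⟩ := m.mid_surj c
        have hxi : m.mid x⁻¹ = c := by
          have h1 := m.mid_mul hx (inv_mem hx)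
          rw [mul_inv_cancel, m.mid_one, hxm] at h1
          have hu : ∀ c d : Mid, umul c c = u0 → u0 = umul c d → d = c := by decide +kernel
          exact hu _ _ hc h1
        refine ⟨r * (x * r * x⁻¹), mul_mem hr (hRn x hx r hr), ?_⟩
        rw [m.mid_mul (hR hr) (mul_mem (mul_mem hx (hR hr)) (inv_mem hx)),
          m.mid_mul (mul_mem hx (hR hr)) (inv_mem hx), m.mid_mul hx (hR hr), hxm, hxi]
        have hassoc : ∀ a b c : Mid, umul (umul a b) c = umul a (umul b c) := by decide +kernel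
        rw [hassoc, e]
      rcases hcase with e | e
      exacts [key xx (by decide) e, key zz (by decide) e]
    -- `v` centralises both involutions
    have hfixd : ∀ (w : G) (hw : w ∈ R) (a : ↥m.A), v (m.th w (hR hw) a * a) = m.th w (hR hw) a * a :=
      fun w hw a => hfix v hv _ (hRZ w hw a)
    have comm1 : ∀ (f : G) (hf : f ∈ R) (g : G) (hg : g ∈ R), isPair (m.mid f) (m.mid g) = true →
        Commute v (m.th f (hR hf)) := by
      intro f hf g hg hpair
      obtain ⟨p, hpR, hpe⟩ := hstab v hv f hf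
      obtain ⟨p1, p2, -, -⟩ := pair_third _ _ hpair
      -- the commutators of `p` and of `f` are the same
      have himg : ∀ a : ↥m.A, dd (m.mid p) (m.vec ((v a : ↥m.A) : G)) = dd (m.mid f) (m.vec a) := fun a => by
        rw [← m.vec_th_mul (hR hpR) (v a), ← m.vec_th_mul (hR hf) a, ← hpe]
        refine congrArg (fun t : ↥m.A => m.vec (t : G)) ?_
        rw [MulAut.mul_apply, MulAut.mul_apply, MulAut.inv_apply_self, ← map_mul, hfixd f hf a]
      have hsub : ∀ b : Outer, dd (m.mid f) b ∈ im1 (m.mid p) := fun b => by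
        obtain ⟨a, ha, rfl⟩ := m.vec_surj b
        rw [← himg ⟨a, ha⟩]
        exact Finset.mem_image.2 ⟨_, Finset.mem_univ _, rfl⟩
      have hpe' : m.mid p = m.mid f := by
        by_cases hp0 : m.mid p = u0
        · exfalso
          obtain ⟨a, ha⟩ := im_ne _ _ hpair
          have hdd0 : ∀ b : Outer, dd u0 b = v0 := by decide +kernel
          have h0 : v0 ∈ im1 (m.mid g) := Finset.mem_image.2 ⟨v0, Finset.mem_univ _, by
            have : ∀ c : Mid, dd c v0 = v0 := by decide +kernel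
            exact this _⟩
          obtain ⟨b, -, hb⟩ := Finset.mem_image.1 (hsub a)
          rw [hp0, hdd0] at hb
          exact ha (hb ▸ h0)
        have hpi : isInv (m.mid p) = true := by simp [isInv, humul p hpR, hp0]
        have hth : ∀ (w : G) (hw : w ∈ R), umul (m.mid p) (m.mid w) = umul (m.mid w) (m.mid p) := fun w hw => by
          have h1 := humul _ (mul_mem hpR hw)
          rw [m.mid_mul (hR hpR) (hR hw)] at h1
          have hu : ∀ a b : Mid, umul a a = u0 → umul b b = u0 → umul (umul a b) (umul a b) = u0 →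
              umul a b = umul b a := by decide +kernel
          exact hu _ _ (humul p hpR) (humul w hw) h1
        rcases mid_card _ _ hpair _ hpi (hth f hf) (hth g hg) with e | e | e
        · exact e
        · exfalso; obtain ⟨a, ha⟩ := im_ne _ _ hpair; exact ha (e ▸ hsub a)
        · exfalso; obtain ⟨a, ha⟩ := im_ne _ _ p1; exact ha (e ▸ hsub a)
      have hpf : m.th p (hR hpR) = m.th f (hR hf) := MulEquiv.ext fun a => Subtype.ext
        (m.vec_inj (SetLike.coe_mem _) (SetLike.coe_mem _) (by rw [m.vec_th, m.vec_th, hpe']))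
      rw [hpf] at hpe
      exact mul_inv_eq_iff_eq_mul.1 hpe
    have hqr : isPair (m.mid q) (m.mid r) = true := hqm ▸ hp
    have hrq : isPair (m.mid r) (m.mid q) = true := by simp [isPair] at hqr ⊢; tauto
    have hcq := comm1 q hq r hr hqr
    have hcr := comm1 r hr q hq hrq
    -- their common fixed points lie in `Z0`
    have hfixC : ∀ a : ↥m.A, m.vec a ∈ fix2 (m.mid q) (m.mid r) → v a = a := by
      intro a ha
      obtain ⟨x, hx, y, hy, hxy⟩ := fix2_le_im _ _ hqr _ ha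
      obtain ⟨b, -, rfl⟩ := Finset.mem_image.1 hx
      obtain ⟨c, -, rfl⟩ := Finset.mem_image.1 hy
      obtain ⟨b', hb', rfl⟩ := m.vec_surj b
      obtain ⟨c', hc', rfl⟩ := m.vec_surj c
      have e : a = m.th q (hR hq) ⟨b', hb'⟩ * ⟨b', hb'⟩ * (m.th r (hR hr) ⟨c', hc'⟩ * ⟨c', hc'⟩) :=
        Subtype.ext (m.vec_inj a.2 (SetLike.coe_mem _)
          (by rw [Subgroup.coe_mul, m.vec_mul (SetLike.coe_mem _) (SetLike.coe_mem _), m.vec_th_mul, m.vec_th_mul, hxy]))
      rw [e, map_mul, hfixd q hq, hfixd r hr]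
    refine MulEquiv.ext fun a => ?_
    have hk : ∀ (w : G) (hw : w ∈ R), Commute v (m.th w (hR hw)) →
        dd (m.mid w) (m.vec ((a * v a : ↥m.A) : G)) = v0 := fun w hw hcw => by
      rw [← m.th_apply_eq_self (hR hw), map_mul, show m.th w (hR hw) (v a) = v (m.th w (hR hw) a) from (DFunLike.congr_fun hcw.eq a).symm]
      have e := hfixd w hw a
      rw [map_mul] at e
      calc m.th w (hR hw) a * v (m.th w (hR hw) a) =
            m.th w (hR hw) a * (v (m.th w (hR hw) a) * v a * v a) := by rw [mul_assoc (v _), m.sqA, mul_one]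
        _ = m.th w (hR hw) a * (m.th w (hR hw) a * a * v a) := by rw [e]
        _ = _ := by rw [← mul_assoc, ← mul_assoc, m.sqA, one_mul]
    have hw : v (a * v a) = a * v a := hfixC _
      (Finset.mem_filter.2 ⟨Finset.mem_filter.2 ⟨Finset.mem_univ _, hk q hq hcq⟩, hk r hr hcr⟩)
    exact (eq_inv_of_mul_eq_one_right
      (m.eq_one_of_twist hodd (a := a) (w := a * v a) (by rw [← mul_assoc, m.sqA, one_mul]) hw)).trans (m.invA a)
  · -- the image of `R` is central
    push Not at hbig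
    let St : Subgroup (MulAut ↥m.A) :=
      { carrier := {w | ∃ r, ∃ hr : r ∈ R, w = m.th r (hR hr)}
        one_mem' := ⟨1, one_mem _, ((m.th_eq_one_iff _).2 m.mid_one).symm⟩
        mul_mem' := by
          rintro _ _ ⟨r, hr, rfl⟩ ⟨p, hp, rfl⟩
          exact ⟨r * p, mul_mem hr hp, (m.th_mul (hR hr) (hR hp)).symm⟩
        inv_mem' := by
          rintro _ ⟨r, hr, rfl⟩
          exact ⟨r, hr, inv_eq_of_mul_eq_one_right (hinvR r hr)⟩ }
    have hStY : St ≤ Y := by rintro _ ⟨r, hr, rfl⟩; exact hRY r hr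
    have hcen : ∀ w ∈ Y, ∀ t ∈ St, Commute w t := by
      rintro w hw _ ⟨r, hr, rfl⟩
      obtain ⟨p, hp, hpe⟩ := hstab w hw r hr
      rcases eq_or_ne (m.mid r) u0 with h | h
      · rw [(m.th_eq_one_iff (hR hr)).2 h]; exact Commute.one_right _
      have hp0 : m.mid p ≠ u0 := fun e => by
        rw [(m.th_eq_one_iff (hR hp)).2 e, conj_eq_one_iff, m.th_eq_one_iff] at hpe
        exact h hpe
      have hpr : m.th p (hR hp) = m.th r (hR hr) := MulEquiv.ext fun a => Subtype.ext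
        (m.vec_inj (SetLike.coe_mem _) (SetLike.coe_mem _) (by
          rw [m.vec_th, m.vec_th, hbig p hp hp0, hbig r hr h]))
      rw [hpr] at hpe
      exact mul_inv_eq_iff_eq_mul.1 hpe
    -- the odd elements of `Y` form a subgroup
    have hN : (St.subgroupOf Y).Normal := ⟨fun t ht w => by
      rw [mem_subgroupOf] at ht ⊢
      rw [Subgroup.coe_mul, Subgroup.coe_mul, (hcen w w.2 t ht).eq, Subgroup.coe_inv, mul_inv_cancel_right]
      exact ht⟩
    obtain ⟨k, hk⟩ := IsPGroup.iff_card.1 (show IsPGroup 2 ↥(St.subgroupOf Y) from fun t => ⟨1, by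
      obtain ⟨r, hr, he⟩ := mem_subgroupOf.1 t.2
      refine Subtype.ext (Subtype.ext ?_)
      rw [pow_one, pow_two]
      show ((t : ↥Y) : MulAut ↥m.A) * ((t : ↥Y) : MulAut ↥m.A) = 1
      rw [he]
      exact hinvR r hr⟩)
    have hindex : Odd (St.subgroupOf Y).index := hidx St fun r hr => ⟨r, hr, rfl⟩
    obtain ⟨T, hT⟩ := exists_right_complement'_of_coprime (N := St.subgroupOf Y)
      (hk.symm ▸ Nat.Coprime.pow_left k (Nat.coprime_two_left.2 hindex))
    have hTodd : Odd (Nat.card ↥(T.map Y.subtype)) := by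
      rw [card_map_of_injective Y.subtype_injective, ← hT.symm.index_eq_card]
      exact hindex
    have hmemT : ∀ w ∈ Y, Odd (orderOf w) → w ∈ T.map Y.subtype := by
      intro w hw hwo
      obtain ⟨⟨⟨⟨s, hsY⟩, hs⟩, t, ht⟩, hst⟩ := hT.2 ⟨w, hw⟩
      have hst' : s * (t : MulAut ↥m.A) = w := congrArg Subtype.val hst
      obtain ⟨r, hr, rfl⟩ := mem_subgroupOf.1 hs
      have hc : Commute (t : MulAut ↥m.A) (m.th r (hR hr)) := hcen t t.2 _ ⟨r, hr, rfl⟩
      obtain ⟨n, hn⟩ := hwo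
      have h1 := pow_orderOf_eq_one w
      rw [← hst', hc.symm.mul_pow, hst', hn, pow_succ (m.th r (hR hr)), pow_mul, pow_two, hinvR r hr, one_pow,
        one_mul] at h1
      have hmem : (⟨m.th r (hR hr), hsY⟩ : ↥Y) ∈ T := by
        have e : (⟨m.th r (hR hr), hsY⟩ : ↥Y) = (t ^ (2 * n + 1))⁻¹ := Subtype.ext (by
          push_cast
          exact eq_inv_of_mul_eq_one_left h1)
        rw [e]
        exact inv_mem (pow_mem ht _)
      have hone := hT.disjoint.le_bot ⟨hs, hmem⟩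
      rw [mem_bot] at hone
      refine ⟨t, ht, ?_⟩
      rw [← hst', show m.th r (hR hr) = 1 from congrArg Subtype.val hone, one_mul]
      rfl
    have hbot := m.eq_bot_of_normalized hTodd fun x hx w hw => by
      obtain ⟨t, ht, rfl⟩ := hw
      refine hmemT _ (hnY x hx _ t.2) ?_
      rw [show orderOf (m.th x hx * Y.subtype t * (m.th x hx)⁻¹) = orderOf (Y.subtype t) from
        (MulAut.conj (m.th x hx)).orderOf_eq (Y.subtype t)]
      exact hTodd.of_dvd_nat (by
        rw [← orderOf_mk (Y.subtype t) (show Y.subtype t ∈ T.map Y.subtype from ⟨t, ht, rfl⟩)]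
        exact orderOf_dvd_natCard _)
    have hvT := hmemT v hv hodd
    rw [hbot] at hvT
    exact mem_bot.1 hvT

/-- `A` is normal. -/
theorem normal (hO : Cfsg.oddCore G = ⊥) : m.A.Normal := by
  classical
  haveI : Fact (Nat.Prime 2) := ⟨Nat.prime_two⟩
  have hloc := m.localHyp hO
  by_cases hno : Fus.Gold.movedComps m.A = ∅
  · have h1 := Fus.Gold.local_closure hloc
    rw [hno, sSup_empty, sup_bot_eq] at h1
    exact ⟨fun a ha g => by
      have := h1 (commutator_mem_commutator (mem_top g) ha)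
      rw [commutatorElement_def] at this
      simpa using mul_mem this ha⟩
  exfalso
  obtain ⟨K, hK, hKm⟩ := Set.nonempty_iff_ne_empty.2 hno
  have hKm' : ¬ m.A ≤ centralizer (K : Set G) := fun h => hKm (Subgroup.le_centralizer_iff.1 h)
  set L := Cfsg.layer G
  haveI hLn : L.Normal := inferInstance
  set S := (m.S : Subgroup G)
  set N := normalizer (m.A : Set G)
  set R := S ⊓ L
  set Z0 := m.A ⊓ centralizer (L : Set G)
  have hKL : K ≤ L := le_sSup hK
  have hRn : ∀ x ∈ S, ∀ r ∈ R, x * r * x⁻¹ ∈ R := fun x hx r hr =>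
    ⟨S.mul_mem (S.mul_mem hx hr.1) (S.inv_mem hx), hLn.conj_mem r hr.2 x⟩
  -- `R` acts trivially modulo `Z0`
  have hRC : ∀ r ∈ R, ∀ a ∈ m.A, r * a * r⁻¹ * a⁻¹ ∈ centralizer (L : Set G) := by
    intro r hr a ha
    suffices h : ∀ J : Subgroup G, Cfsg.IsComponent J → r * a * r⁻¹ * a⁻¹ ∈ centralizer (J : Set G) by
      have hL : L ≤ centralizer ((zpowers (r * a * r⁻¹ * a⁻¹) : Subgroup G) : Set G) := sSup_le fun J hJ =>
        Subgroup.le_centralizer_iff.1 (show zpowers (r * a * r⁻¹ * a⁻¹) ≤ centralizer (J : Set G) from zpowers_le.2 (h J hJ))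
      exact Subgroup.le_centralizer_iff.1 hL (mem_zpowers _)
    intro J hJ
    by_cases hJm : m.A ≤ centralizer (J : Set G)
    · exact mul_mem (hJm (m.conj_mem hr.1 ha)) (inv_mem (hJm ha))
    obtain ⟨t, ht, c, hc, rfl⟩ := m.exists_component_part hloc hJ hr
    have hnJ : ∀ {x}, x ∈ normalizer (J : Set G) → ∀ y ∈ centralizer (J : Set G), x * y * x⁻¹ ∈ centralizer (J : Set G) :=
      fun hx y hy => Fus.Gold.conj_mem_centralizer hx hy
    have htw := Fus.Gold.twist hloc hJ (T := m.S) m.le hJm t ht.1 ht.2 a ha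
    rw [show t * c * a * (t * c)⁻¹ * a⁻¹ = t * (c * (a * c⁻¹ * a⁻¹)) * t⁻¹ * (t * a * t⁻¹ * a⁻¹) by group]
    exact mul_mem (hnJ (le_normalizer ht.2) _ (mul_mem hc
      (hnJ (Fus.Gold.local_normalizes hloc hJ ha) _ (inv_mem hc)))) htw
  -- the automiser of the layer
  let θ : ↥N →* MulAut ↥m.A := m.A.normalizerMonoidHom
  set Y := ((L ⊓ N).subgroupOf N).map θ
  have hYmem : ∀ {x : G}, x ∈ L → ∀ hxN : x ∈ N, θ ⟨x, hxN⟩ ∈ Y := fun hx hxN =>
    ⟨_, mem_subgroupOf.2 ⟨hx, hxN⟩, rfl⟩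
  have hfix : ∀ v ∈ Y, ∀ a : ↥m.A, (a : G) ∈ Z0 → v a = a := by
    rintro _ ⟨⟨x, hxN⟩, hx, rfl⟩ a haZ
    refine Subtype.ext ?_
    show x * a * x⁻¹ = a
    rw [mem_centralizer_iff.1 haZ.2 x (mem_subgroupOf.1 hx).1, mul_inv_cancel_right]
  have hnY : ∀ x (hx : x ∈ S), ∀ v ∈ Y, m.th x hx * v * (m.th x hx)⁻¹ ∈ Y := by
    rintro x hx _ ⟨⟨w, hwN⟩, hw, rfl⟩
    rw [Shape.th, ← map_inv, ← map_mul, ← map_mul]
    exact hYmem (hLn.conj_mem w (mem_subgroupOf.1 hw).1 x) _
  have hRY : ∀ r (hr : r ∈ R), m.th r hr.1 ∈ Y := fun r hr => hYmem hr.2 _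
  have hRodd : Odd (R.relIndex (L ⊓ N)) := by
    refine Nat.not_even_iff_odd.1 fun he => Grp.not_dvd_relIndex_sylow m.S hLn.isSubnormal
      ((even_iff_two_dvd.1 he).trans ?_)
    have h2 : R.relIndex (L ⊓ N) ∣ R.relIndex L :=
      Dvd.intro _ (relIndex_mul_relIndex R (L ⊓ N) L (le_inf inf_le_right (inf_le_left.trans m.sylow_le_normalizer))
        inf_le_left)
    rwa [inf_relIndex_right] at h2
  have hidx : ∀ T : Subgroup (MulAut ↥m.A), (∀ r (hr : r ∈ R), m.th r hr.1 ∈ T) → Odd (T.relIndex Y) := by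
    intro T hT
    refine hRodd.of_dvd_nat ?_
    rw [← relIndex_comap, ← relIndex_subgroupOf (inf_le_right : L ⊓ N ≤ N) (H := R)]
    exact relIndex_dvd_of_le_left _ fun x hx => hT x (mem_subgroupOf.1 hx)
  have hRZ : ∀ r (hr : r ∈ R), ∀ a : ↥m.A, ((m.th r hr.1 a * a : ↥m.A) : G) ∈ Z0 := fun r hr a =>
    ⟨SetLike.coe_mem _, by
      show r * a * r⁻¹ * (a : G) ∈ _
      nth_rw 2 [← inv_eq_of_mul_eq_one_right (m.sq a.2)]
      exact hRC r hr a a.2⟩
  have hSt : ∀ v ∈ Y, (∀ a : ↥m.A, ((v a * a : ↥m.A) : G) ∈ Z0) → ∃ r, ∃ hr : r ∈ R, v = m.th r hr.1 := by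
    intro v hv hst
    let St : Subgroup (MulAut ↥m.A) :=
      { carrier := {w | ∀ a : ↥m.A, ((w a * a : ↥m.A) : G) ∈ Z0} ⊓ (Y : Set (MulAut ↥m.A))
        one_mem' := ⟨fun a => by rw [MulAut.one_apply, m.sqA]; exact one_mem _, one_mem _⟩
        mul_mem' := fun {w w'} hw hw' => ⟨fun a => by
            have e : (w * w') a * a = (w (w' a * a)) * (w a * a) * a * a := by
              rw [MulAut.mul_apply, map_mul, mul_assoc (w (w' a)), ← mul_assoc (w a), m.sqA, one_mul,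
                mul_assoc, mul_assoc, m.sqA, mul_one]
            rw [e, mul_assoc _ a a, m.sqA, mul_one, hfix w hw.2 _ (hw'.1 a)]
            exact mul_mem (hw'.1 a) (hw.1 a), mul_mem hw.2 hw'.2⟩
        inv_mem' := fun {w} hw => ⟨fun a => by
            have h := hw.1 (w⁻¹ a)
            rw [MulAut.apply_inv_self, m.commA] at h
            exact h, inv_mem hw.2⟩ }
    have hsq : ∀ w ∈ St, w * w = 1 := fun w hw => MulEquiv.ext fun a => by
      have h1 := hfix w hw.2 _ (hw.1 a)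
      rw [map_mul] at h1
      show w (w a) = a
      calc w (w a) = w (w a) * w a * w a := by rw [mul_assoc, m.sqA, mul_one]
        _ = w a * a * w a := by rw [h1]
        _ = a := by rw [m.commA (w a) a, mul_assoc, m.sqA, mul_one]
    let Rb : Subgroup (MulAut ↥m.A) :=
      { carrier := {w | ∃ r, ∃ hr : r ∈ R, w = m.th r hr.1}
        one_mem' := ⟨1, one_mem _, ((m.th_eq_one_iff _).2 m.mid_one).symm⟩
        mul_mem' := by
          rintro _ _ ⟨r, hr, rfl⟩ ⟨p, hp, rfl⟩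
          exact ⟨r * p, mul_mem hr hp, (m.th_mul hr.1 hp.1).symm⟩
        inv_mem' := by
          rintro _ ⟨r, hr, rfl⟩
          exact ⟨r, hr, inv_eq_of_mul_eq_one_right (hsq _ ⟨hRZ r hr, hRY r hr⟩)⟩ }
    have hle : Rb ≤ St := by rintro _ ⟨r, hr, rfl⟩; exact ⟨hRZ r hr, hRY r hr⟩
    obtain ⟨j, hj⟩ := IsPGroup.iff_card.1
      (show IsPGroup 2 ↥St from fun w => ⟨1, Subtype.ext (by simpa [pow_two] using hsq w w.2)⟩)
    have hdvd : Rb.relIndex St ∣ Rb.relIndex Y :=
      Dvd.intro _ (relIndex_mul_relIndex Rb St Y hle fun w hw => hw.2)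
    obtain ⟨i, -, hi⟩ := (Nat.dvd_prime_pow Nat.prime_two).1 (hj ▸ relIndex_dvd_card Rb St)
    have hone : Rb.relIndex St = 1 := by
      have := (hidx Rb fun r hr => ⟨r, hr, rfl⟩).of_dvd_nat hdvd
      rw [hi] at this ⊢
      rcases i with _ | i
      · rfl
      · exact absurd this (Nat.not_odd_iff_even.2 (by simp [pow_succ, even_iff_two_dvd]))
    exact relIndex_eq_one.1 hone ⟨hst, hv⟩
  have hRS : R ≤ S := inf_le_left
  have hodd1 : ∀ v ∈ Y, Odd (orderOf v) → v = 1 := fun v hv ho =>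
    m.odd_eq_one hRS hRn Z0 hRY hnY hfix hRZ hSt hidx hv ho
  -- so everything stabilises the series
  have hY2 : IsPGroup 2 ↥Y := by
    refine IsPGroup.iff_orderOf.2 fun w => ?_
    obtain ⟨j, k, hk, he⟩ := Nat.exists_eq_two_pow_mul_odd (orderOf_pos w).ne'
    refine ⟨j, ?_⟩
    have h1 : orderOf ((w : MulAut ↥m.A) ^ 2 ^ j) ∣ k := orderOf_dvd_of_pow_eq_one (by
      rw [← pow_mul, ← he, ← Subgroup.orderOf_coe, pow_orderOf_eq_one])
    have h2 := hodd1 _ (pow_mem w.2 _) (hk.of_dvd_nat h1)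
    have h3 : orderOf w ∣ 2 ^ j := orderOf_dvd_of_pow_eq_one (Subtype.ext (by simpa using h2))
    exact Nat.dvd_antisymm h3 (he ▸ Dvd.intro k rfl)
  let Rb : Subgroup (MulAut ↥m.A) := (R.subgroupOf N).map θ
  have hRbY : Rb.relIndex Y = 1 := by
    obtain ⟨j, hj⟩ := IsPGroup.iff_card.1 hY2
    obtain ⟨i, -, hi⟩ := (Nat.dvd_prime_pow Nat.prime_two).1 (hj ▸ relIndex_dvd_card Rb Y)
    have := hidx Rb fun r hr => ⟨⟨r, m.sylow_le_normalizer hr.1⟩, mem_subgroupOf.2 hr, rfl⟩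
    rw [hi] at this ⊢
    rcases i with _ | i
    · rfl
    · exact absurd this (Nat.not_odd_iff_even.2 (by simp [pow_succ, even_iff_two_dvd]))
  -- a transitive element in the component
  obtain ⟨E, hE, hEd, hEs, hEt⟩ := Fus.Gold.local_factor hloc hK hKm'
  have hfour := Fus.Gold.local_four hloc hK hKm'
  have hE4 : 4 ≤ Nat.card ↥E := by
    have h1 := Grp.card_sup_mul_card_inf (H := m.A ⊓ centralizer (K : Set G)) (N := E)
      (le_trans (fun x hx => mem_centralizer_iff.2 fun v hv => m.comm (hE hv).1 hx.1) (centralizer_le_normalizer _))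
    have hbot : (m.A ⊓ centralizer (K : Set G)) ⊓ E = ⊥ :=
      le_bot_iff.1 ((le_inf inf_le_right (inf_le_left.trans inf_le_right)).trans hEd.le)
    rw [hEs, hbot, Subgroup.card_bot, mul_one] at h1
    rw [h1, mul_comm] at hfour
    exact Nat.le_of_mul_le_mul_left hfour Nat.card_pos
  obtain ⟨x, hx, y, hy, hx1, hy1, hxy⟩ : ∃ x ∈ E, ∃ y ∈ E, x ≠ 1 ∧ y ≠ 1 ∧ x ≠ y := by
    obtain ⟨x, hx, hx1⟩ : ∃ x ∈ E, x ≠ 1 := by
      obtain ⟨⟨x, hx⟩, h⟩ := (show E ≠ ⊥ from fun e => by rw [e, Subgroup.card_bot] at hE4; omega) |>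
        ne_bot_iff_exists_ne_one.1
      exact ⟨x, hx, fun h' => h (Subtype.ext h')⟩
    obtain ⟨y, hy, hyx⟩ : ∃ y ∈ E, y ∉ zpowers x := SetLike.not_le_iff_exists.1 fun h => by
      have := card_le_of_le h
      rw [Nat.card_zpowers] at this
      have h2 : orderOf x ≤ 2 := Nat.le_of_dvd two_pos (orderOf_dvd_of_pow_eq_one (by
        rw [pow_two]; exact m.sq (hE hx).1))
      omega
    exact ⟨x, hx, y, hy, hx1, fun e => hyx (e ▸ one_mem _), fun e => hyx (e ▸ mem_zpowers x)⟩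
  obtain ⟨g, hgK, hgN, -, hgxy⟩ := hEt x hx y hy hx1 hy1
  obtain ⟨⟨r, hrN⟩, hr, hre⟩ := relIndex_eq_one.1 hRbY (hYmem (hKL hgK) hgN)
  have hconj : g * x * g⁻¹ = r * x * r⁻¹ :=
    (congrArg Subtype.val (DFunLike.congr_fun hre (⟨x, (hE hx).1⟩ : ↥m.A))).symm
  have h1 := hRC r (mem_subgroupOf.1 hr) x (hE hx).1
  rw [← hconj, hgxy] at h1
  have h2 : y * x⁻¹ ∈ E ⊓ centralizer (K : Set G) :=
    ⟨E.mul_mem hy (E.inv_mem hx), centralizer_le hKL h1⟩
  rw [hEd, mem_bot, mul_inv_eq_one] at h2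
  exact hxy h2.symm

end Shape

end Cfsg.Agent.Spor.M24Closed
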